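import Mathlib
import Cfsg.Agent.Walter.AbInner

/-!
# Automorphisms centralising an abelian Sylow 2-subgroup

`inner_of_fix`: an automorphism of 2-power order of a simple group which centralises an abelian Sylow 2-subgroup is
inner.
-/

set_option autoImplicit false
set_option linter.dupNamespace false

namespace Cfsg.Agent.R2.RkInt

open Subgroup Cfsg

theorem inner_of_fix {X : Type*} [Group X] [Finite X] [IsSimpleGroup X] (hna : ∃ a b : X, a * b ≠ b * a)
    (P : Sylow 2 X) (hPc : ∀ a ∈ (P : Subgroup X), ∀ b ∈ (P : Subgroup X), a * b = b * a)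
    (hPne : (P : Subgroup X) ≠ ⊥) (α : MulAut X) {k : ℕ} (hk : α ^ 2 ^ k = 1)
    (hcen : ∀ x ∈ (P : Subgroup X), α x = x) : ∃ x, α = MulAut.conj x := by
  have h2 : Fact (Nat.Prime 2) := ⟨Nat.prime_two⟩
  -- the group `H`
  set I : Subgroup (MulAut X) := (MulAut.conj : X →* MulAut X).range with hI
  have hconj : ∀ (γ : MulAut X) (x : X), γ * MulAut.conj x * γ⁻¹ = MulAut.conj (γ x) := by
    intro γ x
    ext y
    simp [MulAut.conj_apply, MulAut.mul_apply]
  have hIn : I.Normal := by
    refine ⟨?_⟩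
    rintro _ ⟨x, rfl⟩ γ
    exact ⟨γ x, (hconj γ x).symm⟩
  have hinj : Function.Injective (MulAut.conj : X →* MulAut X) := by
    rw [injective_iff_map_eq_one]
    intro x hx
    have h3 : x ∈ center X := by
      rw [mem_center_iff]
      intro g
      have h4 := congrArg (fun γ : MulAut X => γ g) hx
      change x * g * x⁻¹ = g at h4
      rw [mul_inv_eq_iff_eq_mul] at h4
      exact h4.symm
    have h4 : center X = ⊥ := by
      rcases (inferInstance : (center X).Normal).eq_bot_or_eq_top with h | h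
      · exact h
      · exfalso
        obtain ⟨a, b, hab⟩ := hna
        have h5 : b ∈ center X := by rw [h]; trivial
        exact hab (mem_center_iff.1 h5 a)
    rw [h4, mem_bot] at h3
    exact h3
  have hIC : centralizer (I : Set (MulAut X)) = ⊥ := by
    rw [eq_bot_iff]
    intro γ hγ
    rw [mem_bot]
    ext x
    have h3 := mem_centralizer_iff.1 hγ (MulAut.conj x) ⟨x, rfl⟩
    apply hinj
    rw [← hconj, ← h3]
    simp
  let eI : X ≃* I := MulEquiv.ofBijective (MulAut.conj : X →* MulAut X).rangeRestrict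
    ⟨fun a b hab => hinj (congrArg Subtype.val hab), (MulAut.conj : X →* MulAut X).rangeRestrict_surjective⟩
  set H := I ⊔ zpowers α with hH
  have hαH : α ∈ H := mem_sup_right (mem_zpowers α)
  have hIH : I ≤ H := le_sup_left
  set A₀ := (P : Subgroup X).map (MulAut.conj : X →* MulAut X) ⊔ zpowers α with hA₀
  have hA₀H : A₀ ≤ H := sup_le_sup_right (by rintro _ ⟨x, -, rfl⟩; exact ⟨x, rfl⟩) _
  have hαc : ∀ x ∈ (P : Subgroup X), α * MulAut.conj x = MulAut.conj x * α := by
    intro x hx
    have h3 := hconj α x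
    rw [hcen x hx, mul_inv_eq_iff_eq_mul] at h3
    exact h3
  have hαnorm : zpowers α ≤ normalizer (((P : Subgroup X).map (MulAut.conj : X →* MulAut X) : Subgroup (MulAut X)) :
      Set (MulAut X)) := by
    rw [zpowers_le]
    apply Subgroup.centralizer_le_normalizer
    rw [mem_centralizer_iff]
    rintro _ ⟨x, hx, rfl⟩
    exact (hαc x hx).symm
  have hαp : IsPGroup 2 (zpowers α) := by
    rintro ⟨b, j, rfl⟩
    refine ⟨k, Subtype.ext ?_⟩
    change (α ^ j) ^ 2 ^ k = 1
    rw [← zpow_natCast, ← zpow_mul, mul_comm, zpow_mul, zpow_natCast, hk, one_zpow]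
  have hA₀2 : IsPGroup 2 A₀ := IsPGroup.to_sup_of_normal_left' (P.2.map _) hαp hαnorm
  obtain ⟨A, hA⟩ := (hA₀2.comap_of_injective H.subtype H.subtype_injective).exists_le_sylow
  have htA : (⟨α, hαH⟩ : H) ∈ (A : Subgroup H) := hA (show α ∈ A₀ from mem_sup_right (mem_zpowers α))
  -- `A ∩ I = P`
  have hAI : ∀ x : X, ∀ hx : MulAut.conj x ∈ H, (⟨MulAut.conj x, hx⟩ : H) ∈ (A : Subgroup H) → x ∈ (P : Subgroup X) := by
    let f : X →* H := (MulAut.conj : X →* MulAut X).codRestrict H fun x => hIH ⟨x, rfl⟩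
    have hf : Function.Injective f := fun a b hab => hinj (congrArg Subtype.val hab)
    have h3 : IsPGroup 2 ((A : Subgroup H).comap f) := A.2.comap_of_injective f hf
    have h4 : (P : Subgroup X) ≤ (A : Subgroup H).comap f := by
      intro x hx
      exact hA (show MulAut.conj x ∈ A₀ from mem_sup_left ⟨x, hx, rfl⟩)
    have h5 := P.is_maximal' h3 h4
    intro x hx hxA
    rw [← h5]
    exact hxA
  have hform : ∀ a ∈ (A : Subgroup H), ∃ x ∈ (P : Subgroup X), ∃ j : ℤ, (a : MulAut X) = MulAut.conj x * α ^ j := by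
    intro a ha
    have h3 : (a : MulAut X) ∈ I ⊔ zpowers α := a.2
    rw [mem_sup_of_normal_left] at h3
    obtain ⟨l, ⟨x, rfl⟩, y, ⟨j, rfl⟩, hly⟩ := h3
    refine ⟨x, ?_, j, hly.symm⟩
    refine hAI x (hIH ⟨x, rfl⟩) ?_
    have h4 : (⟨MulAut.conj x, hIH ⟨x, rfl⟩⟩ : H) = a * (⟨α, hαH⟩ ^ j)⁻¹ := by
      apply Subtype.ext
      rw [coe_mul, coe_inv, coe_zpow]
      change MulAut.conj x = (a : MulAut X) * (α ^ j)⁻¹
      rw [← hly]
      exact (mul_inv_cancel_right _ _).symm
    rw [h4]
    exact mul_mem ha (inv_mem (zpow_mem htA j))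
  have hAcomm : ∀ a ∈ (A : Subgroup H), ∀ b ∈ (A : Subgroup H), a * b = b * a := by
    intro a ha b hb
    obtain ⟨x, hx, i, hxi⟩ := hform a ha
    obtain ⟨y, hy, j, hyj⟩ := hform b hb
    apply Subtype.ext
    change (a : MulAut X) * b = b * a
    have c0 : ∀ x ∈ (P : Subgroup X), ∀ i : ℤ, MulAut.conj x * α ^ i = α ^ i * MulAut.conj x := by
      intro x hx i
      exact ((show Commute (MulAut.conj x) α from (hαc x hx).symm).zpow_right i).eq
    have c3 : MulAut.conj x * MulAut.conj y = MulAut.conj y * MulAut.conj x := by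
      rw [← map_mul, ← map_mul, hPc x hx y hy]
    rw [hxi, hyj]
    calc MulAut.conj x * α ^ i * (MulAut.conj y * α ^ j) = MulAut.conj x * (α ^ i * MulAut.conj y) * α ^ j := by group
      _ = MulAut.conj x * (MulAut.conj y * α ^ i) * α ^ j := by rw [c0 y hy i]
      _ = (MulAut.conj x * MulAut.conj y) * (α ^ i * α ^ j) := by group
      _ = (MulAut.conj y * MulAut.conj x) * (α ^ j * α ^ i) := by rw [c3, ← zpow_add, ← zpow_add, add_comm]
      _ = MulAut.conj y * (MulAut.conj x * α ^ j) * α ^ i := by group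
      _ = MulAut.conj y * (α ^ j * MulAut.conj x) * α ^ i := by rw [c0 x hx j]
      _ = MulAut.conj y * α ^ j * (MulAut.conj x * α ^ i) := by group
  -- conclusion
  set K := I.subgroupOf H with hK
  have hKn : K.Normal := inferInstance
  have eK : K ≃* X := (subgroupOfEquivOfLe hIH).trans eI.symm
  have hKs : IsSimpleGroup K := by
    have : Nontrivial K := eK.toEquiv.nontrivial
    exact IsSimpleGroup.isSimpleGroup_of_surjective eK.symm.toMonoidHom eK.symm.surjective
  have hKc : centralizer (K : Set H) = ⊥ := by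
    rw [eq_bot_iff]
    intro x hx
    have h3 : (x : MulAut X) ∈ centralizer (I : Set (MulAut X)) := by
      rw [mem_centralizer_iff]
      intro l hl
      have := mem_centralizer_iff.1 hx ⟨l, hIH hl⟩ hl
      exact congrArg Subtype.val this
    rw [hIC, mem_bot] at h3
    rw [mem_bot]
    exact Subtype.ext h3
  have hKA : K ⊔ (A : Subgroup H) = ⊤ := by
    rw [eq_top_iff]
    rintro ⟨a, ha⟩ -
    have h3 := ha
    rw [hH, mem_sup_of_normal_left] at h3
    obtain ⟨l, hl, y, ⟨j, rfl⟩, hly⟩ := h3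
    have h5 : (⟨a, ha⟩ : H) = ⟨l, hIH hl⟩ * ⟨α, hαH⟩ ^ j := by
      apply Subtype.ext
      rw [coe_mul, coe_zpow]
      exact hly.symm
    rw [h5]
    exact mul_mem (mem_sup_left hl) (mem_sup_right (zpow_mem htA j))
  have heven : 2 ∣ Nat.card K := by
    rw [Nat.card_congr eK.toEquiv]
    obtain ⟨n, hn⟩ := IsPGroup.iff_card.1 P.2
    have h6 : n ≠ 0 := by
      rintro rfl
      exact hPne (card_eq_one.1 (by rw [hn, pow_zero]))
    exact ((dvd_pow_self 2 h6).trans hn.symm.dvd).trans (card_subgroup_dvd_card _)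
  have h7 := Walter.AbInner.le_of_centralizer_eq_bot K hKs hKc A hAcomm hKA heven htA
  obtain ⟨x, hx⟩ := h7
  exact ⟨x, hx.symm⟩

end Cfsg.Agent.R2.RkInt
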