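import Cfsg.Agent.H335.CycInt
import Cfsg.Agent.TwoGenCore.Basic

/-!
# Groups in which distinct Sylow 2-subgroups meet in groups of 2-rank at most one

`RkInt G`. It passes to subgroups (`of_injective`) and to quotients by normal subgroups of odd order
(`of_surjective`).
-/

set_option autoImplicit false
set_option linter.dupNamespace false

namespace Cfsg.Agent.R2.RkInt

open Subgroup Cfsg Cfsg.Agent.TwoGenCore Cfsg.Agent.H335

/-- distinct Sylow 2-subgroups meet in a group without commuting distinct involutions -/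
def RkInt (G : Type*) [Group G] : Prop :=
  ∀ S T : Sylow 2 G, Four ((S : Subgroup G) ⊓ (T : Subgroup G)) → S = T

variable {G K : Type*} [Group G] [Group K]

theorem rkInt_of_pRank [Finite G]
    (h : ∀ S T : Sylow 2 G, S ≠ T → PRankLE 2 1 ↥((S : Subgroup G) ⊓ (T : Subgroup G))) : RkInt G := by
  intro S T hF
  by_contra hne
  exact not_pRankLE_one_iff.2 hF (h S T hne)

theorem Four.map_of_injOn {f : G →* K} {X : Subgroup G} (h : Four X) (hf : ∀ x ∈ X, f x = 1 → x = 1) :
    Four (X.map f) := by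
  obtain ⟨x, hx, y, hy, h1, h2, h3, h4, h5, h6⟩ := h
  refine ⟨f x, ⟨x, hx, rfl⟩, f y, ⟨y, hy, rfl⟩, fun h => h1 (hf x hx h), fun h => h2 (hf y hy h), ?_, ?_, ?_, ?_⟩
  · intro he
    apply h3
    have h7 : f (x * y⁻¹) = 1 := by rw [map_mul, map_inv, he, mul_inv_cancel]
    exact mul_inv_eq_one.1 (hf _ (mul_mem hx (inv_mem hy)) h7)
  · rw [← map_mul, h4, map_one]
  · rw [← map_mul, h5, map_one]
  · rw [← map_mul, ← map_mul, h6]

theorem RkInt.eq_of_le (h : RkInt G) {P : Subgroup G} (hP : Four P) {S T : Sylow 2 G}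
    (hS : P ≤ S) (hT : P ≤ T) : S = T :=
  h S T (hP.mono (le_inf hS hT))

theorem RkInt.of_injective (h : RkInt G) {f : K →* G} (hf : Function.Injective f) : RkInt K := by
  intro S T hF
  obtain ⟨S', hS'⟩ := Sylow.exists_comap_eq_of_injective S hf
  obtain ⟨T', hT'⟩ := Sylow.exists_comap_eq_of_injective T hf
  have h1 : Four (((S : Subgroup K) ⊓ (T : Subgroup K)).map f) := Four.map_of_injOn hF fun x _ hx => by
    rwa [map_eq_one_iff f hf] at hx
  have h2 : S' = T' := by
    refine h.eq_of_le h1 ?_ ?_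
    · rintro _ ⟨x, hx, rfl⟩
      have h3 : x ∈ (S' : Subgroup G).comap f := by rw [hS']; exact hx.1
      exact h3
    · rintro _ ⟨x, hx, rfl⟩
      have h3 : x ∈ (T' : Subgroup G).comap f := by rw [hT']; exact hx.2
      exact h3
  subst h2
  exact Sylow.ext (hS'.symm.trans hT')

theorem RkInt.subgroup (h : RkInt G) (H : Subgroup G) : RkInt H :=
  h.of_injective H.subtype_injective

/-- a 2-element in the kernel is trivial if the kernel has odd order -/
theorem eq_one_of_ker [Finite G] {f : G →* K} (hk : Odd (Nat.card f.ker)) {x : G} (h2 : ∃ k : ℕ, x ^ 2 ^ k = 1)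
    (hx : f x = 1) : x = 1 := by
  obtain ⟨k, h4⟩ := h2
  have h3 : x ∈ f.ker := hx
  have h5 : orderOf x ∣ 2 ^ k := orderOf_dvd_of_pow_eq_one h4
  have h6 : orderOf x ∣ Nat.card f.ker := by
    have := orderOf_dvd_natCard (⟨x, h3⟩ : f.ker)
    rwa [Subgroup.orderOf_mk] at this
  have h7 : Nat.Coprime (2 ^ k) (Nat.card f.ker) := Nat.Coprime.pow_left k (Nat.coprime_two_left.2 hk)
  exact orderOf_eq_one_iff.1 (Nat.eq_one_of_dvd_coprimes h7 h5 h6)

theorem RkInt.of_surjective [Finite G] (h : RkInt G) {f : G →* K} (hf : Function.Surjective f)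
    (hk : Odd (Nat.card f.ker)) : RkInt K := by
  have : Fact (Nat.Prime 2) := ⟨Nat.prime_two⟩
  have : Finite K := Finite.of_surjective f hf
  intro S T hF
  set D := (S : Subgroup K) ⊓ (T : Subgroup K) with hD
  -- a Sylow 2-subgroup of the preimage of `D`
  set M := D.comap f with hM
  let g : M →* D := (f.comp M.subtype).codRestrict D fun x => x.2
  have hg : Function.Surjective g := by
    rintro ⟨y, hy⟩
    obtain ⟨x, rfl⟩ := hf y
    exact ⟨⟨x, hy⟩, rfl⟩
  obtain ⟨P⟩ : Nonempty (Sylow 2 M) := inferInstance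
  have hDp : IsPGroup 2 D := S.2.to_le inf_le_left
  have hPtop : (P : Subgroup M).map g = ⊤ := by
    have h1 := (P.mapSurjective hg).is_maximal' (Q := ⊤) (hDp.to_subgroup ⊤) le_top
    exact h1.symm
  set P' : Subgroup G := (P : Subgroup M).map M.subtype with hP'
  have hP'2 : IsPGroup 2 P' := P.2.map _
  have hmap : P'.map f = D := by
    apply le_antisymm
    · rintro _ ⟨_, ⟨x, -, rfl⟩, rfl⟩
      exact x.2
    · intro y hy
      have h1 : (⟨y, hy⟩ : D) ∈ (P : Subgroup M).map g := by rw [hPtop]; trivial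
      obtain ⟨x, hx, hxy⟩ := h1
      exact ⟨x, ⟨x, hx, rfl⟩, congrArg Subtype.val hxy⟩
  obtain ⟨S', hPS, hS'⟩ := exists_sylow_over hf hP'2 S (hmap.le.trans inf_le_left)
  obtain ⟨T', hPT, hT'⟩ := exists_sylow_over hf hP'2 T (hmap.le.trans inf_le_right)
  have hinj : ∀ x ∈ P', f x = 1 → x = 1 := by
    intro x hx hx1
    refine eq_one_of_ker hk ?_ hx1
    obtain ⟨k, hk⟩ := hP'2 ⟨x, hx⟩
    exact ⟨k, congrArg Subtype.val hk⟩
  have hF' : Four P' := by
    obtain ⟨x, hx, y, hy, h1, h2, h3, h4, h5, h6⟩ := hF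
    rw [← hmap] at hx hy
    obtain ⟨x', hx', rfl⟩ := hx
    obtain ⟨y', hy', rfl⟩ := hy
    refine ⟨x', hx', y', hy', ?_, ?_, ?_, ?_, ?_, ?_⟩
    · rintro rfl; exact h1 (map_one f)
    · rintro rfl; exact h2 (map_one f)
    · rintro rfl; exact h3 rfl
    · exact hinj _ (mul_mem hx' hx') (by rw [map_mul, h4])
    · exact hinj _ (mul_mem hy' hy') (by rw [map_mul, h5])
    · have h7 : f (x' * y' * (y' * x')⁻¹) = 1 := by
        rw [map_mul, map_inv, map_mul, map_mul, h6, mul_inv_cancel]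
      exact mul_inv_eq_one.1 (hinj _ (mul_mem (mul_mem hx' hy') (inv_mem (mul_mem hy' hx'))) h7)
  have h2 : S' = T' := h.eq_of_le hF' hPS hPT
  subst h2
  exact Sylow.ext (hS'.symm.trans hT')

theorem RkInt.congr [Finite G] (h : RkInt G) (e : G ≃* K) : RkInt K := by
  refine h.of_surjective (f := e.toMonoidHom) e.surjective ?_
  have h1 : e.toMonoidHom.ker = ⊥ := by
    rw [eq_bot_iff]
    intro x hx
    rw [mem_bot]
    exact e.injective (by rw [map_one]; exact hx)
  rw [h1, card_bot]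
  exact odd_one

/-- an element moving a four-group of `S` into `S` normalises `S` -/
theorem RkInt.norm (h : RkInt G) [Finite G] {S : Sylow 2 G} {P : Subgroup G} (hP : Four P) (hPS : P ≤ S) {n : G}
    (hn : ∀ x ∈ P, n * x * n⁻¹ ∈ (S : Subgroup G)) : n ∈ normalizer ((S : Subgroup G) : Set G) := by
  have : Fact (Nat.Prime 2) := ⟨Nat.prime_two⟩
  refine Sylow.smul_eq_iff_mem_normalizer.1 ?_
  refine h.eq_of_le (hP.conj n) ?_ ?_
  · rintro _ ⟨x, hx, rfl⟩
    rw [mem_smul_sylow]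
    change n⁻¹ * (n * x * n⁻¹) * n ∈ _
    have : n⁻¹ * (n * x * n⁻¹) * n = x := by group
    rw [this]
    exact hPS hx
  · rintro _ ⟨x, hx, rfl⟩
    exact hn x hx

/-- the same for two commuting involutions -/
theorem RkInt.norm₂ (h : RkInt G) [Finite G] {S : Sylow 2 G} {x y n : G} (hx : x ∈ (S : Subgroup G))
    (hy : y ∈ (S : Subgroup G)) (hx1 : x ≠ 1) (hy1 : y ≠ 1) (hxy : x ≠ y) (hxx : x * x = 1) (hyy : y * y = 1)
    (hc : x * y = y * x) (hnx : n * x * n⁻¹ ∈ (S : Subgroup G)) (hny : n * y * n⁻¹ ∈ (S : Subgroup G)) :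
    n ∈ normalizer ((S : Subgroup G) : Set G) := by
  have hF : Four (fourSub x y hxx hyy hc) :=
    ⟨x, left_mem_fourSub hxx hyy hc, y, right_mem_fourSub hxx hyy hc, hx1, hy1, hxy, hxx, hyy, hc⟩
  refine h.norm hF (fourSub_le hxx hyy hc hx hy) ?_
  rintro a (rfl | rfl | rfl | rfl)
  · simp
  · exact hnx
  · exact hny
  · have h1 : n * (x * y) * n⁻¹ = (n * x * n⁻¹) * (n * y * n⁻¹) := by group
    rw [h1]
    exact mul_mem hnx hny

end Cfsg.Agent.R2.RkInt
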