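import Cfsg.Agent.R2.RkInt.Basic
import Cfsg.Agent.H335.Fusion

/-!
# Strong closure of `Ω₁(Z(S))`

* `exists_conj_in` : the extremal conjugation lemma for a central element of a Sylow 2-subgroup;
* `closed_of_good` : if some involution `x ∈ Z(S)` satisfies `g x g⁻¹ ∈ S → g ∈ N(S)`, then `omz S` is strongly
  closed;
* `RkInt.closed` : the same under `RkInt G`.
-/

set_option autoImplicit false
set_option linter.dupNamespace false

namespace Cfsg.Agent.R2.RkInt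

open Subgroup Cfsg Cfsg.Agent.TwoGenCore Cfsg.Agent.H335

variable {G : Type*} [Group G] [Finite G]

/-- **Extremal conjugation.** `v ∈ Z(S)`, `P ≤ S` centralises `g v g⁻¹`: some `c ∈ C(v)` has
`(c g⁻¹) P (c g⁻¹)⁻¹ ≤ S`. -/
theorem exists_conj_in (S : Sylow 2 G) {v g : G} (hvc : ∀ s ∈ (S : Subgroup G), s * v = v * s)
    {P : Subgroup G} (hP : P ≤ S) (hPy : ∀ p ∈ P, p * (g * v * g⁻¹) = (g * v * g⁻¹) * p) :
    ∃ c : G, c * v = v * c ∧ ∀ p ∈ P, (c * g⁻¹) * p * (c * g⁻¹)⁻¹ ∈ (S : Subgroup G) := by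
  have h2 : Fact (Nat.Prime 2) := ⟨Nat.prime_two⟩
  set C := centralizer ({v} : Set G) with hC
  have hSC : (S : Subgroup G) ≤ C := fun s hs => mem_centralizer_singleton_iff.2 (hvc s hs)
  set D := P.map (MulAut.conj g⁻¹).toMonoidHom with hD
  have hDC : D ≤ C := by
    rintro _ ⟨p, hp, rfl⟩
    have h5 := hPy p hp
    rw [hC, mem_centralizer_singleton_iff]
    change g⁻¹ * p * g⁻¹⁻¹ * v = v * (g⁻¹ * p * g⁻¹⁻¹)
    rw [inv_inv]
    calc g⁻¹ * p * g * v = g⁻¹ * (p * (g * v * g⁻¹)) * g := by group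
      _ = g⁻¹ * ((g * v * g⁻¹) * p) * g := by rw [h5]
      _ = _ := by group
  have h4 : IsPGroup 2 (D.subgroupOf C) := ((S.2.to_le hP).map _).comap_of_injective _ C.subtype_injective
  obtain ⟨Q, hQ⟩ := h4.exists_le_sylow
  obtain ⟨c, hc⟩ := MulAction.exists_smul_eq C Q (S.subtype hSC)
  refine ⟨c, mem_centralizer_singleton_iff.1 c.2, fun p hp => ?_⟩
  have h6 : g⁻¹ * p * g ∈ D := ⟨p, hp, by simp⟩
  have h7 : (⟨_, hDC h6⟩ : C) ∈ (Q : Subgroup C) := hQ h6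
  have h8 : c * ⟨_, hDC h6⟩ * c⁻¹ ∈ (S.subtype hSC : Subgroup C) := by
    rw [← hc, mem_smul_sylow]
    have h9 : c⁻¹ * (c * ⟨_, hDC h6⟩ * c⁻¹) * c = ⟨_, hDC h6⟩ := by group
    rw [h9]
    exact h7
  have h9 : (c : G) * (g⁻¹ * p * g) * (c : G)⁻¹ ∈ (S : Subgroup G) := h8
  have h10 : (c * g⁻¹) * p * (c * g⁻¹)⁻¹ = (c : G) * (g⁻¹ * p * g) * (c : G)⁻¹ := by group
  rw [h10]
  exact h9

/-- fusion of central elements if there is a good central involution -/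
theorem fusion_of_good (S : Sylow 2 G) {x : G} (hx : x ∈ (S : Subgroup G))
    (hxc : ∀ s ∈ (S : Subgroup G), s * x = x * s)
    (hgood : ∀ g : G, g * x * g⁻¹ ∈ (S : Subgroup G) → g ∈ normalizer ((S : Subgroup G) : Set G))
    {v g : G} (hvc : ∀ s ∈ (S : Subgroup G), s * v = v * s) (hg : g * v * g⁻¹ ∈ (S : Subgroup G)) :
    ∃ n ∈ normalizer ((S : Subgroup G) : Set G), n * v * n⁻¹ = g * v * g⁻¹ := by
  obtain ⟨c, hc, h1⟩ := exists_conj_in S hvc (P := zpowers x) ((zpowers_le).2 hx) (g := g) (by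
    intro p hp
    have h3 : Commute (g * v * g⁻¹) x := hxc _ hg
    obtain ⟨k, rfl⟩ := hp
    exact ((h3.zpow_right k).symm).eq)
  have h2 := hgood _ (h1 x (mem_zpowers x))
  refine ⟨(c * g⁻¹)⁻¹, inv_mem h2, ?_⟩
  calc (c * g⁻¹)⁻¹ * v * (c * g⁻¹)⁻¹⁻¹ = g * (c⁻¹ * (v * c)) * g⁻¹ := by group
    _ = g * (c⁻¹ * (c * v)) * g⁻¹ := by rw [hc]
    _ = _ := by group

/-- fusion of central involutions under `RkInt` -/
theorem RkInt.fusion (h : RkInt G) (S : Sylow 2 G) {v g : G} (hv : v ∈ (S : Subgroup G)) (hv1 : v ≠ 1)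
    (hvv : v * v = 1) (hvc : ∀ s ∈ (S : Subgroup G), s * v = v * s) (hg : g * v * g⁻¹ ∈ (S : Subgroup G)) :
    ∃ n ∈ normalizer ((S : Subgroup G) : Set G), n * v * n⁻¹ = g * v * g⁻¹ := by
  by_cases he : g * v * g⁻¹ = v
  · exact ⟨1, one_mem _, by rw [he]; group⟩
  set y := g * v * g⁻¹ with hy
  have hyy : y * y = 1 := by
    calc y * y = g * (v * v) * g⁻¹ := by rw [hy]; group
      _ = 1 := by rw [hvv]; group
  have hy1 : y ≠ 1 := by
    intro h3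
    apply hv1
    have : v = g⁻¹ * y * g := by rw [hy]; group
    rw [this, h3]; group
  have hyv : v * y = y * v := (hvc y hg).symm
  obtain ⟨c, hc, h1⟩ := exists_conj_in S hvc (P := fourSub v y hvv hyy hyv) (fourSub_le hvv hyy hyv hv hg) (g := g) (by
    rw [← hy]
    rintro p (rfl | rfl | rfl | rfl)
    · simp
    · exact hyv
    · rfl
    · calc v * y * y = v * (y * y) := mul_assoc _ _ _
        _ = (y * y) * v := by rw [hyy, mul_one, one_mul]
        _ = y * (y * v) := mul_assoc _ _ _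
        _ = y * (v * y) := by rw [hyv])
  have h3 : c * g⁻¹ ∈ normalizer ((S : Subgroup G) : Set G) :=
    h.norm₂ hv hg hv1 hy1 (Ne.symm he) hvv hyy hyv (h1 v (left_mem_fourSub hvv hyy hyv))
      (h1 y (right_mem_fourSub hvv hyy hyv))
  refine ⟨(c * g⁻¹)⁻¹, inv_mem h3, ?_⟩
  calc (c * g⁻¹)⁻¹ * v * (c * g⁻¹)⁻¹⁻¹ = g * (c⁻¹ * (v * c)) * g⁻¹ := by group
    _ = g * (c⁻¹ * (c * v)) * g⁻¹ := by rw [hc]
    _ = y := by rw [hy]; group

theorem closed_of_good (S : Sylow 2 G) {x : G} (hx : x ∈ (S : Subgroup G))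
    (hxc : ∀ s ∈ (S : Subgroup G), s * x = x * s)
    (hgood : ∀ g : G, g * x * g⁻¹ ∈ (S : Subgroup G) → g ∈ normalizer ((S : Subgroup G) : Set G)) :
    Cfsg.IsStronglyClosed (omz (S : Subgroup G)) (S : Subgroup G) := by
  refine ⟨omz_le _, fun v hv g hg => ?_⟩
  obtain ⟨n, hn, h1⟩ := fusion_of_good S hx hxc hgood hv.2.1 hg
  rw [← h1]
  exact conj_mem_omz hn hv

theorem RkInt.closed (h : RkInt G) (S : Sylow 2 G) : Cfsg.IsStronglyClosed (omz (S : Subgroup G)) (S : Subgroup G) := by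
  refine ⟨omz_le _, fun x hx g hg => ?_⟩
  by_cases hx1 : x = 1
  · rw [hx1]
    simp
  · obtain ⟨n, hn, h1⟩ := h.fusion S hx.1 hx1 hx.2.2 hx.2.1 hg
    rw [← h1]
    exact conj_mem_omz hn hx

end Cfsg.Agent.R2.RkInt
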