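import Cfsg.Agent.R2.RkInt.SD

/-!
# One component: the Sylow 2-subgroups

`OC.tiz_split` : distinct Sylow 2-subgroups of `L` meet in `Z(L)` and `S = (S ∩ L) R`.
-/

set_option autoImplicit false
set_option linter.dupNamespace false

namespace Cfsg.Agent.R2.RkInt

open Subgroup Cfsg Cfsg.Agent.H335 Cfsg.Agent.TwoGenCore
open Cfsg.Agent.Walter.Types

section general

variable {G : Type*} [Group G] [Finite G]

theorem four_conj {P T : Sylow 2 G} (h : Four (P : Subgroup G)) : Four (T : Subgroup G) := by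
  have h2 : Fact (Nat.Prime 2) := ⟨Nat.prime_two⟩
  obtain ⟨g, rfl⟩ := MulAction.exists_smul_eq G P T
  refine (h.conj g).mono ?_
  rintro _ ⟨x, hx, rfl⟩
  refine mem_smul_sylow.2 ?_
  change g⁻¹ * (g * x * g⁻¹) * g ∈ (P : Subgroup G)
  have : g⁻¹ * (g * x * g⁻¹) * g = x := by group
  rw [this]
  exact hx

/-- the Sylow 2-subgroups of a nonabelian simple group contain four-groups -/
theorem four_of_simple [IsSimpleGroup G] (hna : ∃ a b : G, a * b ≠ b * a) (P : Sylow 2 G) :
    Four (P : Subgroup G) := by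
  by_contra hF
  have hc : center G = ⊥ := by
    rcases (inferInstance : (center G).Normal).eq_bot_or_eq_top with h | h
    · exact h
    · exfalso
      obtain ⟨a, b, hab⟩ := hna
      have h5 : b ∈ center G := by rw [h]; trivial
      exact hab (mem_center_iff.1 h5 a)
  have hperf : Group.IsPerfect G := by
    refine ⟨?_⟩
    rcases (inferInstance : (commutator G).Normal).eq_bot_or_eq_top with h | h
    · exfalso
      obtain ⟨a, b, hab⟩ := hna
      rw [commutator_eq_bot_iff_center_eq_top] at h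
      have h5 : b ∈ center G := by rw [h]; trivial
      exact hab (mem_center_iff.1 h5 a)
    · exact h
  have hsim : IsSimpleGroup (G ⧸ center G) := by
    have e : G ≃* G ⧸ center G := (QuotientGroup.quotientBot (G := G)).symm.trans
      (QuotientGroup.quotientMulEquivOfEq hc.symm)
    have : Nontrivial (G ⧸ center G) := e.symm.toEquiv.nontrivial
    exact IsSimpleGroup.isSimpleGroup_of_surjective e.toMonoidHom e.surjective
  obtain ⟨-, z, hz1, -, hz⟩ := exists_center ⟨hperf, hsim⟩ (by rw [hc]; exact IsPGroup.of_bot) P hF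
  have h1 := (hz z).2 (Or.inr rfl)
  rw [hc, mem_bot] at h1
  exact hz1 h1

end general

namespace OC

variable {G : Type*} [Group G] [Finite G] {L R : Subgroup G}

/-- `Z(L) = R = ⟨z⟩`, `L` of 2-rank one: `G` is of 2-rank one -/
theorem not_four (h : OC L R) {z : L} (hz1 : z ≠ 1) (hzz : z * z = 1) (hzc : ∀ x : L, x ∈ center L ↔ x = 1 ∨ x = z)
    (hR : ∀ r ∈ R, r = 1 ∨ r = z) (hnF : ∀ P : Sylow 2 L, ¬ Four (P : Subgroup L)) (S : Sylow 2 G) :
    ¬ Four (S : Subgroup G) := by
  intro hF
  have h2 : Fact (Nat.Prime 2) := ⟨Nat.prime_two⟩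
  have hq : IsQuasisimple L := ⟨h.perf, h.simple⟩
  have hRn := h.Rnormal
  have hzL : z ∈ center L := (hzc z).2 (Or.inr rfl)
  have hzR : (z : G) ∈ R := h.center_le hzL
  have hz1' : (z : G) ≠ 1 := fun h => hz1 (Subtype.ext h)
  have hzz' : (z : G) * z = 1 := congrArg Subtype.val hzz
  have hzC : ∀ g : G, g * z = z * g := by
    intro g
    have h3 := hRn.conj_mem _ hzR g
    rcases hR _ h3 with h4 | h4
    · exfalso
      apply hz1'
      have : (z : G) = g⁻¹ * (g * z * g⁻¹) * g := by group
      rw [this, h4]; group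
    · exact mul_inv_eq_iff_eq_mul.1 h4
  have hzS : (z : G) ∈ (S : Subgroup G) := h.R_le S hzR
  by_cases hno : ∀ E : Subgroup (S : Subgroup G), E.Normal → ¬ IsKleinFour E
  · obtain ⟨a, ha, b, hb, ha1, hb1, hab, haa, hbb, hc⟩ := id hF
    have hfour : ∃ E : Subgroup (S : Subgroup G), IsKleinFour E := by
      obtain ⟨W, hW, -⟩ := S0502.exists_klein (P := (S : Subgroup G)) (a := ⟨a, ha⟩) (b := ⟨b, hb⟩)
        (by rw [pow_two]; exact Subtype.ext haa) (by rw [pow_two]; exact Subtype.ext hbb)
        (fun h => ha1 (congrArg Subtype.val h)) (fun h => hb1 (congrArg Subtype.val h))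
        (fun h => hab (congrArg Subtype.val h)) (Subtype.ext hc)
      exact ⟨W, hW⟩
    rcases TwoFusion.NoNormalFour.dihedral_or_qd_of_no_normal_four S.isPGroup' hfour hno with ⟨m, hm, ⟨e⟩⟩ | hqd
    · obtain ⟨P, hP⟩ := h.exists_sylow S
      obtain ⟨⟨n, ⟨f⟩⟩, -⟩ := exists_center hq h.center_two P (hnF P)
      have hzP : z ∈ (P : Subgroup L) := le_sylow_of_normal inferInstance h.center_two P hzL
      obtain ⟨⟨c, hc, d, hd, hcc, hdd, hcd⟩, -⟩ := quat_data P.2 (hnF P) f hzP hz1 hzz
      rw [hP] at hc hd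
      have hcc' : (c : G) * c = z := congrArg Subtype.val hcc
      have hdd' : (d : G) * d = z := congrArg Subtype.val hdd
      refine not_dihedral e (z := ⟨z, hzS⟩) (a := ⟨c, hc⟩) (b := ⟨d, hd⟩) (fun h => hz1' (congrArg Subtype.val h))
        (Subtype.ext hcc') (Subtype.ext hdd') ?_
      intro h3
      have h4 : (c : G) * d = d * c := congrArg Subtype.val h3
      exact hcd (Subtype.ext h4)
    · exact h.false_of_qd hz1 hzz hzc hR hnF S hqd hF
  · push Not at hno
    obtain ⟨E, hEn, hE⟩ := hno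
    obtain ⟨x, hx, hx1, hxz, hxx, hxs⟩ := exists_x S.2 E hE hEn hzS hz1' (fun s _ => hzC s) hzz'
    exact h.false_of_x hz1 hzz hzc hR hnF S hx hx1 hxz hxx hxs

/-- the Sylow 2-subgroups of `L`, `L` of 2-rank one, in `S` -/
theorem four_of_root (h : OC L R) {z : L} (hz1 : z ≠ 1) (hzz : z * z = 1) (hzc : ∀ x : L, x ∈ center L ↔ x = 1 ∨ x = z)
    (hnF : ∀ P : Sylow 2 L, ¬ Four (P : Subgroup L)) {r : G} (hr : r ∈ R) (hrr : r * r = z) (S : Sylow 2 G) :
    Four ((S : Subgroup G) ⊓ L ⊔ R) := by
  have hq : IsQuasisimple L := ⟨h.perf, h.simple⟩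
  obtain ⟨P, hP⟩ := h.exists_sylow S
  have hzL : z ∈ center L := (hzc z).2 (Or.inr rfl)
  have hzR : (z : G) ∈ R := h.center_le hzL
  have hz1' : (z : G) ≠ 1 := fun h => hz1 (Subtype.ext h)
  have hzz' : (z : G) * z = 1 := congrArg Subtype.val hzz
  obtain ⟨⟨n, ⟨f⟩⟩, -⟩ := exists_center hq h.center_two P (hnF P)
  have hzP : z ∈ (P : Subgroup L) := le_sylow_of_normal inferInstance h.center_two P hzL
  obtain ⟨⟨c, hc, -, -, hcc, -, -⟩, -⟩ := quat_data P.2 (hnF P) f hzP hz1 hzz
  rw [hP] at hc
  have hcc' : (c : G) * c = z := congrArg Subtype.val hcc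
  have hrL : r ∉ L := by
    intro hrL
    have h1 : (⟨r, hrL⟩ : L) ∈ center L := h.center_iff.2 hr
    rcases (hzc _).1 h1 with h2 | h2
    · have h3 : r = 1 := congrArg Subtype.val h2
      rw [h3, mul_one] at hrr
      exact hz1' hrr.symm
    · have h3 : r = z := congrArg Subtype.val h2
      rw [h3, hzz'] at hrr
      exact hz1' hrr.symm
  have hcr : (c : G) * r = r * c := h.comm c c.2 r hr
  refine four_of_pair (x := z) (y := c * r) (mem_sup_right hzR) (mul_mem (mem_sup_left ⟨hc, c.2⟩) (mem_sup_right hr))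
    hz1' ?_ ?_ hzz' ?_ ?_
  · intro h1
    apply hrL
    have : r = (c : G)⁻¹ * (c * r) := by group
    rw [this, h1, mul_one]
    exact inv_mem c.2
  · intro h1
    apply hrL
    have : r = (c : G)⁻¹ * (c * r) := by group
    rw [this, ← h1]
    exact mul_mem (inv_mem c.2) z.2
  · calc (c : G) * r * (c * r) = c * (r * c) * r := by group
      _ = c * (c * r) * r := by rw [hcr]
      _ = (c * c) * (r * r) := by group
      _ = 1 := by rw [hcc', hrr, hzz']
  · have h1 : (z : G) * c = c * z := congrArg Subtype.val ((mem_center_iff.1 hzL c).symm)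
    have h2 : (z : G) * r = r * z := h.comm z z.2 r hr
    calc (z : G) * (c * r) = (z * c) * r := by group
      _ = c * (z * r) := by rw [h1]; group
      _ = c * r * z := by rw [h2]; group

theorem tiz_split (h : OC L R) (hS4 : ∀ S : Sylow 2 G, Four (S : Subgroup G))
    (h3 : ∃ S T : Sylow 2 G, S ≠ T ∧ ¬ IsCyclic ↥((S : Subgroup G) ⊓ (T : Subgroup G))) :
    TIZ L ∧ ∀ S : Sylow 2 G, (S : Subgroup G) = (S : Subgroup G) ⊓ L ⊔ R := by
  have h2 : Fact (Nat.Prime 2) := ⟨Nat.prime_two⟩
  have hLn := h.normal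
  have hsim := h.simple
  have hq : IsQuasisimple L := ⟨h.perf, h.simple⟩
  obtain ⟨P⟩ : Nonempty (Sylow 2 L) := inferInstance
  by_cases hF : Four (P : Subgroup L)
  · -- four-groups in `L`
    have hF' : ∀ S : Sylow 2 G, Four ((S : Subgroup G) ⊓ L ⊔ R) := by
      intro S
      obtain ⟨T, hT⟩ := h.exists_sylow S
      have h4 := Four.map_of_injOn (f := L.subtype) (four_conj (T := T) hF) (fun x _ hx => Subtype.ext hx)
      refine h4.mono ?_
      rw [hT, subgroupOf_map_subtype]
      exact le_sup_left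
    have hmain : TIZ L → TIZ L ∧ ∀ S : Sylow 2 G, (S : Subgroup G) = (S : Subgroup G) ⊓ L ⊔ R := by
      intro hT
      refine ⟨hT, fun S => h.split (hF' S) ?_⟩
      exact innP_of_tiz h.perf h.center_two hT
    by_cases hZ : center L = ⊥
    · by_cases hR : R = ⊥
      · -- `L` simple
        have e : L ≃* L ⧸ center L := (QuotientGroup.quotientBot (G := L)).symm.trans
          (QuotientGroup.quotientMulEquivOfEq hZ.symm)
        have hLs : IsSimpleGroup L := by
          have : Nontrivial L := e.toEquiv.nontrivial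
          exact IsSimpleGroup.isSimpleGroup_of_surjective e.symm.toMonoidHom e.symm.surjective
        have hna : ∃ a b : L, a * b ≠ b * a := by
          obtain ⟨a, b, hab⟩ := quot_nonab h.perf (L := L)
          refine ⟨e.symm a, e.symm b, fun h4 => hab ?_⟩
          rw [← map_mul, ← map_mul] at h4
          exact e.symm.injective h4
        rcases (h.rk.subgroup L).simple_cases hna P with h4 | h4
        · exfalso
          obtain ⟨S, T, hST, hcyc⟩ := h3
          have hI : InnP L := innP_wType hna (wType_of_comm hna P h4)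
          have hS := h.split (hF' S) hI
          rw [hR, sup_bot_eq] at hS
          obtain ⟨P', hP'⟩ := h.exists_sylow S
          obtain ⟨g, hg⟩ := MulAction.exists_smul_eq L P' P
          have hSc : ∀ a ∈ (S : Subgroup G), ∀ b ∈ (S : Subgroup G), a * b = b * a := by
            intro a ha b hb
            have haL : a ∈ L := by rw [hS] at ha; exact ha.2
            have hbL : b ∈ L := by rw [hS] at hb; exact hb.2
            have key : ∀ c (hc : c ∈ L), c ∈ (S : Subgroup G) → g * ⟨c, hc⟩ * g⁻¹ ∈ (P : Subgroup L) := by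
              intro c hc hcS
              rw [← hg]
              refine mem_smul_sylow.2 ?_
              have : g⁻¹ * (g * ⟨c, hc⟩ * g⁻¹) * g = ⟨c, hc⟩ := by group
              rw [this, hP']
              exact hcS
            have h5 := h4 _ (key a haL ha) _ (key b hbL hb)
            have h6 : (⟨a, haL⟩ : L) * ⟨b, hbL⟩ = ⟨b, hbL⟩ * ⟨a, haL⟩ := by
              calc (⟨a, haL⟩ : L) * ⟨b, hbL⟩ = g⁻¹ * ((g * ⟨a, haL⟩ * g⁻¹) * (g * ⟨b, hbL⟩ * g⁻¹)) * g := by group
                _ = g⁻¹ * ((g * ⟨b, hbL⟩ * g⁻¹) * (g * ⟨a, haL⟩ * g⁻¹)) * g := by rw [h5]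
                _ = _ := by group
            exact congrArg Subtype.val h6
          apply hcyc
          refine cyclic_of_comm (S.2.to_le inf_le_left) (fun h5 => hST (h.rk S T h5)) ?_
          intro a ha b hb
          exact hSc a ha.1 b hb.1
        · refine hmain ?_
          intro S T hST
          rw [h4 S T hST]
          exact bot_le
      · obtain ⟨z, hzR, hz1, hzz, -⟩ := exists_inv h.R2 hR
        refine hmain (tiz_of_inv h.rk L ?_ hzz (fun l hl => (h.comm l hl z hzR).symm))
        intro hzL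
        have h4 : (⟨z, hzL⟩ : L) ∈ center L := h.center_iff.2 hzR
        rw [hZ, mem_bot] at h4
        exact hz1 (congrArg Subtype.val h4)
    · obtain ⟨z, hzL, hz1, hzz, -⟩ := exists_inv h.center_two hZ
      exact hmain (RkInt.tiz_of_four h.perf h.center_two h.center_not_four hzL hz1 hzz (h.rk.subgroup L) P hF)
  · -- no four-groups in `L`
    have hnF : ∀ T : Sylow 2 L, ¬ Four (T : Subgroup L) := fun T hT => hF (four_conj hT)
    obtain ⟨-, z, hz1, hzz, hzc⟩ := exists_center hq h.center_two P hF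
    have hzL : z ∈ center L := (hzc z).2 (Or.inr rfl)
    have hzR : (z : G) ∈ R := h.center_le hzL
    have hz1' : (z : G) ≠ 1 := fun h => hz1 (Subtype.ext h)
    have hzz' : (z : G) * z = 1 := congrArg Subtype.val hzz
    by_cases hR : ∀ r ∈ R, r = 1 ∨ r = z
    · obtain ⟨S, -, -⟩ := h3
      exact absurd (hS4 S) (h.not_four hz1 hzz hzc hR hnF S)
    · push Not at hR
      obtain ⟨r, hr, hr1, hrz⟩ := hR
      obtain ⟨r', hr', hrr', -⟩ := exists_root' h.R2 h.RF hzR hz1' hzz' hr hr1 hrz
      have hT : TIZ L := tiz_of_root h.rk L hnF hz1 hzz hzc (fun l hl => (h.comm l hl r' hr').symm) hrr'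
      refine ⟨hT, fun S => h.split (h.four_of_root hz1 hzz hzc hnF hr' hrr' S) ?_⟩
      exact innP_of_tiz h.perf h.center_two hT

end OC

end Cfsg.Agent.R2.RkInt
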