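import Cfsg.Agent.S1324
import Cfsg.Agent.R2.RkInt.OneMain

/-!
# Elementary abelian subgroups of order 8

* `oddCore_le` : a Sylow 2-subgroup with an elementary abelian subgroup of order 8 centralises `O(G)` if `RkInt G`;
* `OC.exists_eight` : such subgroups in the one component case.
-/

set_option autoImplicit false
set_option linter.dupNamespace false

namespace Cfsg.Agent.R2.RkInt

open Subgroup Cfsg Cfsg.Agent.H335 Cfsg.Agent.TwoGenCore
open Cfsg.Agent.Walter.Types

section general

variable {G : Type*} [Group G] [Finite G]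

/-- an elementary abelian 2-group of order at least 4 contains a four-group -/
theorem four_of_card {B : Subgroup G} (hB : Cfsg.IsElementaryAbelian 2 B) (h4 : 4 ≤ Nat.card B) : Four B := by
  have hsq : ∀ b ∈ B, b * b = 1 := by
    intro b hb
    rw [← pow_two]
    exact hB.2 b hb
  obtain ⟨x, hxB, hx1⟩ : ∃ x ∈ B, x ≠ 1 := by
    by_contra hcon
    push Not at hcon
    have h1 : B = ⊥ := by
      rw [eq_bot_iff]
      intro x hx
      rw [mem_bot]
      exact hcon x hx
    rw [h1, card_bot] at h4
    omega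
  obtain ⟨y, hyB, hy1, hyx⟩ : ∃ y ∈ B, y ≠ 1 ∧ y ≠ x := by
    by_contra hcon
    push Not at hcon
    have h1 : (B : Set G) ⊆ {1, x} := by
      intro y hy
      by_cases hy1 : y = 1
      · exact Or.inl hy1
      · exact Or.inr (hcon y hy hy1)
    have h2 := Set.ncard_le_ncard h1 (Set.toFinite _)
    have h3 : Set.ncard (B : Set G) = Nat.card B := (Nat.card_coe_set_eq _).symm
    have h5 : Set.ncard ({1, x} : Set G) ≤ 2 := by
      have := Set.ncard_insert_le (1 : G) {x}
      rw [Set.ncard_singleton] at this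
      exact this
    omega
  refine four_of_pair hxB hyB hx1 hy1 (Ne.symm hyx) (hsq x hxB) (hsq y hyB) ?_
  exact congrArg Subtype.val (hB.1.is_comm.comm ⟨x, hxB⟩ ⟨y, hyB⟩)

theorem oddCore_le (h : RkInt G) (S : Sylow 2 G) {A : Subgroup G} (hAS : A ≤ S) (hA : Cfsg.IsElementaryAbelian 2 A)
    (h8 : 8 ≤ Nat.card A) : oddCore G ≤ centralizer ((S : Subgroup G) : Set G) := by
  have h2 : Fact (Nat.Prime 2) := ⟨Nat.prime_two⟩
  have hOn : (oddCore G).Normal := Lib.Cores.pPrimeCore_normal 2
  have hOc : Nat.Coprime (Nat.card (oddCore G)) 2 := Lib.Cores.pPrimeCore_coprime 2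
  have hodd : ¬ 2 ∣ Nat.card (oddCore G) := by
    intro h3
    have := Nat.Coprime.eq_one_of_dvd hOc.symm h3
    omega
  have hSO : (S : Subgroup G) ⊓ oddCore G = ⊥ := by
    obtain ⟨k, hk⟩ := IsPGroup.iff_card.1 S.2
    refine (disjoint_of_coprime_natCard ?_).eq_bot
    rw [hk]
    exact Nat.Coprime.pow_left _ hOc.symm
  rw [Cfsg.Agent.S1324.result 2 A (oddCore G) hA (by omega) hodd (by rw [normalizer_eq_top]; exact le_top)]
  refine iSup_le fun B => ?_
  have hBA : (B : Subgroup G) ≤ A := B.2.1
  have hB4 : 4 ≤ Nat.card (B : Subgroup G) := by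
    have h3 : (B : Subgroup G).relIndex A * Nat.card (B : Subgroup G) = Nat.card A := by
      have h4 := relIndex_mul_relIndex ⊥ (B : Subgroup G) A bot_le hBA
      rw [relIndex_bot_left, relIndex_bot_left] at h4
      rw [mul_comm]
      exact h4
    have h4 := B.2.2
    by_contra hlt
    have h5 : (B : Subgroup G).relIndex A * Nat.card (B : Subgroup G) ≤ 2 * 3 := Nat.mul_le_mul h4 (by omega)
    omega
  have hBe : Cfsg.IsElementaryAbelian 2 (B : Subgroup G) := by
    refine ⟨⟨⟨fun a b => Subtype.ext ?_⟩⟩, fun a ha => hA.2 a (hBA ha)⟩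
    have h3 : (a : G) * b = b * a := congrArg Subtype.val (hA.1.is_comm.comm ⟨a, hBA a.2⟩ ⟨b, hBA b.2⟩)
    exact h3
  have hBF : Four (B : Subgroup G) := four_of_card hBe hB4
  rintro n ⟨hnO, hnB⟩
  have hnS : n ∈ normalizer ((S : Subgroup G) : Set G) := by
    refine h.norm hBF (hBA.trans hAS) ?_
    intro x hx
    have h3 : x * n = n * x := mem_centralizer_iff.1 hnB x hx
    rw [← h3]
    have h4 : x * n * n⁻¹ = x := by group
    rw [h4]
    exact hAS (hBA hx)
  rw [mem_centralizer_iff]
  intro s hs
  have h3 : s * n * s⁻¹ * n⁻¹ ∈ (S : Subgroup G) ⊓ oddCore G := by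
    constructor
    · have h4 : s * n * s⁻¹ * n⁻¹ = s * (n * s⁻¹ * n⁻¹) := by group
      rw [h4]
      exact (S : Subgroup G).mul_mem hs ((mem_normalizer_iff.1 hnS _).1 ((S : Subgroup G).inv_mem hs))
    · exact (oddCore G).mul_mem (hOn.conj_mem n hnO s) ((oddCore G).inv_mem hnO)
  rw [hSO, mem_bot] at h3
  calc s * n = (s * n * s⁻¹ * n⁻¹) * (n * s) := by group
    _ = n * s := by rw [h3, one_mul]

/-- three independent commuting involutions -/
theorem exists_eight {S : Subgroup G} {x y w : G} (hx : x ∈ S) (hy : y ∈ S) (hw : w ∈ S) (hx1 : x ≠ 1) (hy1 : y ≠ 1)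
    (hxy : x ≠ y) (hxx : x * x = 1) (hyy : y * y = 1) (hww : w * w = 1) (hcxy : x * y = y * x) (hcxw : x * w = w * x)
    (hcyw : y * w = w * y) (hw1 : w ≠ 1) (hwx : w ≠ x) (hwy : w ≠ y) (hwxy : w ≠ x * y) :
    ∃ A ≤ S, Cfsg.IsElementaryAbelian 2 A ∧ 8 ≤ Nat.card A := by
  set A := closure ({x, y, w} : Set G) with hA
  have hcomm : ∀ a ∈ ({x, y, w} : Set G), ∀ b ∈ ({x, y, w} : Set G), a * b = b * a := by
    rintro a (rfl | rfl | rfl) b (rfl | rfl | rfl)
    · rfl
    · exact hcxy
    · exact hcxw
    · exact hcxy.symm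
    · rfl
    · exact hcyw
    · exact hcxw.symm
    · exact hcyw.symm
    · rfl
  have hAc : IsMulCommutative A := isMulCommutative_closure hcomm
  have hmul : ∀ a ∈ A, ∀ b ∈ A, a * b = b * a := fun a ha b hb =>
    congrArg Subtype.val (hAc.is_comm.comm ⟨a, ha⟩ ⟨b, hb⟩)
  have hsq : ∀ a ∈ A, a * a = 1 := by
    intro a ha
    refine closure_induction (p := fun a _ => a * a = 1) ?_ (one_mul 1) ?_ ?_ ha
    · rintro a (rfl | rfl | rfl)
      · exact hxx
      · exact hyy
      · exact hww
    · intro a b ha hb haa hbb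
      calc a * b * (a * b) = a * (b * a) * b := by group
        _ = a * (a * b) * b := by rw [hmul b hb a ha]
        _ = (a * a) * (b * b) := by group
        _ = 1 := by rw [haa, hbb, one_mul]
    · intro a ha haa
      rw [← _root_.mul_inv_rev, haa, inv_one]
  have hxA : x ∈ A := subset_closure (Or.inl rfl)
  have hyA : y ∈ A := subset_closure (Or.inr (Or.inl rfl))
  have hwA : w ∈ A := subset_closure (Or.inr (Or.inr rfl))
  refine ⟨A, ?_, ⟨hAc, fun a ha => by rw [pow_two]; exact hsq a ha⟩, ?_⟩
  · rw [hA, closure_le]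
    rintro a (rfl | rfl | rfl)
    · exact hx
    · exact hy
    · exact hw
  · -- the eight elements
    have hF4 : Nat.card (fourSub x y hxx hyy hcxy) = 4 := by
      obtain ⟨W, hW, hWm⟩ := S0502.exists_klein (P := G) (a := x) (b := y) (by rw [pow_two, hxx]) (by rw [pow_two, hyy])
        hx1 hy1 hxy hcxy
      have : fourSub x y hxx hyy hcxy = W := by
        ext v
        rw [hWm]
        rfl
      rw [this]
      exact IsKleinFour.card_four
    have hle : fourSub x y hxx hyy hcxy ≤ A := fourSub_le hxx hyy hcxy hxA hyA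
    have hdvd := card_dvd_of_le hle
    rw [hF4] at hdvd
    obtain ⟨k, hk⟩ := hdvd
    rcases k with _ | _ | k
    · have : 0 < Nat.card A := Nat.card_pos
      omega
    · exfalso
      have h5 : fourSub x y hxx hyy hcxy = A := eq_of_le_of_card_ge hle (by rw [hF4, hk])
      rw [← h5] at hwA
      rcases hwA with h6 | h6 | h6 | h6
      · exact hw1 h6
      · exact hwx h6
      · exact hwy h6
      · exact hwxy h6
    · omega

end general

namespace OC

variable {G : Type*} [Group G] [Finite G] {L R : Subgroup G}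

/-- central elements of a quaternion group -/
theorem _root_.Cfsg.Agent.R2.RkInt.quat_center {P : Subgroup G} (hP : IsPGroup 2 P) (hF : ¬ Four P) {n : ℕ}
    (e : P ≃* QuaternionGroup (2 ^ (n + 1))) {z c : G} (hz : z ∈ P) (hz1 : z ≠ 1) (hzz : z * z = 1) (hc : c ∈ P)
    (hcc : ∀ p ∈ P, p * c = c * p) : c = 1 ∨ c = z := by
  by_contra hcon
  push Not at hcon
  obtain ⟨a, haP, haa, k, hk⟩ := exists_root' hP hF hz hz1 hzz hc hcon.1 hcon.2
  obtain ⟨⟨b, hb, d, hd, hbb, hdd, hbd⟩, -⟩ := quat_data hP hF e hz hz1 hzz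
  have hac : ∀ p ∈ P, p * a = a * p := by
    intro p hp
    rw [hk]
    exact ((show Commute p c from hcc p hp).pow_right k).eq
  have h1 : (a * b) * (a * b) = 1 := by
    calc (a * b) * (a * b) = a * (b * a) * b := by group
      _ = a * (a * b) * b := by rw [hac b hb]
      _ = (a * a) * (b * b) := by group
      _ = 1 := by rw [haa, hbb, hzz]
  have hda : d * (a * b) = (a * b) * d → b * d = d * b := by
    intro h3
    have h4 : a * (d * b) = a * (b * d) := by
      calc a * (d * b) = (a * d) * b := by group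
        _ = (d * a) * b := by rw [hac d hd]
        _ = d * (a * b) := by group
        _ = (a * b) * d := h3
        _ = a * (b * d) := by group
    exact (mul_left_cancel h4).symm
  by_cases h3 : a * b = 1
  · exact hbd (hda (by rw [h3, mul_one, one_mul]))
  · have h4 : a * b = z := eq_of_not_four' hP hF (mul_mem haP hb) hz h3 hz1 h1 hzz
    apply hbd
    apply hda
    rw [h4, ← hdd, mul_assoc]

/-- **`S` contains an elementary abelian subgroup of order 8** -/
theorem exists_eight (h : OC L R) (hT : TIZ L) {n : ℕ} (e : R ≃* QuaternionGroup (2 ^ (n + 1))) (S : Sylow 2 G) :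
    ∃ A ≤ (S : Subgroup G), Cfsg.IsElementaryAbelian 2 A ∧ 8 ≤ Nat.card A := by
  have h2 : Fact (Nat.Prime 2) := ⟨Nat.prime_two⟩
  have hLn := h.normal
  have hsim := h.simple
  have hq : IsQuasisimple L := ⟨h.perf, h.simple⟩
  have hna := quot_nonab h.perf (L := L)
  obtain ⟨P, hP⟩ := h.exists_sylow S
  have hPS : ∀ x ∈ (P : Subgroup L), (x : G) ∈ (S : Subgroup G) := by
    intro x hx
    rw [hP] at hx
    exact hx
  have hRS := h.R_le S
  have hR1 : R ≠ ⊥ := by
    intro hb
    have h3 : Nat.card R = Nat.card (QuaternionGroup (2 ^ (n + 1))) := Nat.card_congr e.toEquiv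
    have hne : NeZero (2 ^ (n + 1)) := ⟨by positivity⟩
    rw [hb, card_bot, Nat.card_eq_fintype_card, QuaternionGroup.card] at h3
    omega
  obtain ⟨z, hzR, hz1, hzz, hzRc⟩ := exists_inv h.R2 hR1
  have hzL : ∀ l ∈ L, l * z = z * l := fun l hl => h.comm l hl z hzR
  -- `Z(L) ≤ {1, z}`
  have hZ : ∀ x ∈ center L, (x : G) = 1 ∨ (x : G) = z := by
    intro x hx
    exact quat_center h.R2 h.RF e hzR hz1 hzz (h.center_le hx) (fun p hp => (h.comm x x.2 p hp).symm)
  by_cases hF : Four (P : Subgroup L)
  · by_cases hzl : z ∈ L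
    · -- `Z(L) = {1, z}`
      have hzC : (⟨z, hzl⟩ : L) ∈ center L := h.center_iff.2 hzR
      have hZP : center L ≤ P := le_sylow_of_normal inferInstance h.center_two P
      set Z : L := ⟨z, hzl⟩ with hZdef
      have hZ1 : Z ≠ 1 := fun h => hz1 (congrArg Subtype.val h)
      have hZZ : Z * Z = 1 := Subtype.ext hzz
      have hZc : ∀ x : L, x ∈ center L → x = 1 ∨ x = Z := by
        intro x hx
        rcases hZ x hx with h3 | h3
        · exact Or.inl (Subtype.ext h3)
        · exact Or.inr (Subtype.ext h3)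
      obtain ⟨x, hxP, hx1, hxZ, hxx⟩ : ∃ x ∈ (P : Subgroup L), x ≠ 1 ∧ x ≠ Z ∧ x * x = 1 := by
        obtain ⟨a, ha, b, hb, ha1, hb1, hab, haa, hbb, -⟩ := hF
        by_cases h3 : a = Z
        · exact ⟨b, hb, hb1, fun h4 => hab (h3.trans h4.symm), hbb⟩
        · exact ⟨a, ha, ha1, h3, haa⟩
      have hxC : QuotientGroup.mk' (center L) x ≠ 1 := by
        intro h3
        rcases hZc x ((QuotientGroup.eq_one_iff x).1 h3) with h4 | h4
        · exact hx1 h4
        · exact hxZ h4
      have hxx' : QuotientGroup.mk' (center L) x * QuotientGroup.mk' (center L) x = 1 := by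
        rw [← map_mul, hxx, map_one]
      -- involutions lift to involutions
      have hlift : ∀ v : L ⧸ center L, v ≠ 1 → v * v = 1 → ∃ p : L, p * p = 1 ∧ QuotientGroup.mk' (center L) p = v := by
        intro v hv1 hvv
        obtain ⟨g, hg⟩ := conj_of_ti hna (ti_quot h.center_two hT) hxC hxx' hv1 hvv
        obtain ⟨g, rfl⟩ := QuotientGroup.mk'_surjective (center L) g
        refine ⟨g * x * g⁻¹, ?_, ?_⟩
        · calc g * x * g⁻¹ * (g * x * g⁻¹) = g * (x * x) * g⁻¹ := by group
            _ = 1 := by rw [hxx]; group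
        · rw [map_mul, map_mul, map_inv]
          exact hg
      obtain ⟨v, hv, w, hw, hv1, hw1, hvw, hvv, hww, hc⟩ := four_of_simple hna (qSyl (center L) P)
      obtain ⟨p, hpp, hpv⟩ := hlift v hv1 hvv
      obtain ⟨q, hqq, hqw⟩ := hlift w hw1 hww
      have hvw1 : v * w ≠ 1 := by
        intro h3
        apply hvw
        calc v = v * w * w := by rw [mul_assoc, hww, mul_one]
          _ = w := by rw [h3, one_mul]
      obtain ⟨r, hrr, hrvw⟩ := hlift (v * w) hvw1 (by
        calc v * w * (v * w) = v * (w * v) * w := by group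
          _ = v * (v * w) * w := by rw [hc]
          _ = (v * v) * (w * w) := by group
          _ = 1 := by rw [hvv, hww, one_mul])
      have hpP : p ∈ (P : Subgroup L) := (mem_qSyl hZP).1 (by rw [hpv]; exact hv)
      have hqP : q ∈ (P : Subgroup L) := (mem_qSyl hZP).1 (by rw [hqw]; exact hw)
      have hpq : (p * q) * (p * q) = 1 := by
        have h3 : r⁻¹ * (p * q) ∈ center L := by
          apply QuotientGroup.eq.1
          change QuotientGroup.mk' (center L) r = QuotientGroup.mk' (center L) (p * q)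
          rw [hrvw, map_mul, hpv, hqw]
        have h4 : p * q = r * (r⁻¹ * (p * q)) := by group
        rcases hZc _ h3 with h5 | h5
        · rw [h4, h5, mul_one, hrr]
        · rw [h4, h5]
          have h6 : r * Z = Z * r := mem_center_iff.1 hzC r
          calc r * Z * (r * Z) = r * Z * (Z * r) := by rw [h6]
            _ = r * (Z * Z) * r := by group
            _ = 1 := by rw [hZZ, mul_one, hrr]
      have hpqc : p * q = q * p := by
        have h3 : p * q = (p * q)⁻¹ := (inv_eq_of_mul_eq_one_left hpq).symm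
        rw [_root_.mul_inv_rev, inv_eq_of_mul_eq_one_left hpp, inv_eq_of_mul_eq_one_left hqq] at h3
        exact h3
      have hmZ : QuotientGroup.mk' (center L) Z = 1 := (QuotientGroup.eq_one_iff Z).2 hzC
      have hne : ∀ {a b : L}, QuotientGroup.mk' (center L) a ≠ QuotientGroup.mk' (center L) b → (a : G) ≠ b := by
        intro a b hab h3
        exact hab (congrArg _ (Subtype.ext h3))
      have hZp : Z * p = p * Z := (mem_center_iff.1 hzC p).symm
      have hZq : Z * q = q * Z := (mem_center_iff.1 hzC q).symm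
      refine Cfsg.Agent.R2.RkInt.exists_eight (x := (Z : G)) (y := p) (w := q) (hRS hzR) (hPS p hpP) (hPS q hqP) hz1
        (fun h3 => hv1 ?_) (hne ?_) hzz (congrArg Subtype.val hpp) (congrArg Subtype.val hqq)
        (congrArg Subtype.val hZp) (congrArg Subtype.val hZq) (congrArg Subtype.val hpqc) (fun h3 => hw1 ?_)
        (hne ?_) (hne ?_) (fun h3 => ?_)
      · rw [← hpv, show p = 1 from Subtype.ext h3, map_one]
      · rw [hmZ, hpv]
        exact hv1.symm
      · rw [← hqw, show q = 1 from Subtype.ext h3, map_one]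
      · rw [hmZ, hqw]
        exact hw1
      · rw [hqw, hpv]
        exact hvw.symm
      · have h4 : q = Z * p := Subtype.ext h3
        apply hvw
        rw [← hpv, ← hqw, h4, map_mul, hmZ, one_mul]
    · obtain ⟨a, ha, b, hb, ha1, hb1, hab, haa, hbb, hc⟩ := hF
      refine Cfsg.Agent.R2.RkInt.exists_eight (x := (a : G)) (y := b) (w := z) (hPS a ha) (hPS b hb) (hRS hzR)
        (fun h => ha1 (Subtype.ext h)) (fun h => hb1 (Subtype.ext h)) (fun h => hab (Subtype.ext h))
        (congrArg Subtype.val haa) (congrArg Subtype.val hbb) hzz (congrArg Subtype.val hc) (hzL a a.2) (hzL b b.2) hz1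
        ?_ ?_ ?_
      · rintro rfl
        exact hzl a.2
      · rintro rfl
        exact hzl b.2
      · intro h3
        apply hzl
        rw [h3]
        exact mul_mem a.2 b.2
  · -- `Q₈ * Q₈`
    have hnF : ∀ T : Sylow 2 L, ¬ Four (T : Subgroup L) := fun T hT => hF (four_conj hT)
    obtain ⟨⟨m, ⟨f⟩⟩, Z, hZ1, hZZ, hZc⟩ := exists_center hq h.center_two P hF
    have hZL : Z ∈ center L := (hZc Z).2 (Or.inr rfl)
    have hZz : (Z : G) = z := (hZ Z hZL).resolve_left fun h => hZ1 (Subtype.ext h)
    have hZP : Z ∈ (P : Subgroup L) := le_sylow_of_normal inferInstance h.center_two P hZL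
    obtain ⟨a, ha, b, hb, haa, hbb, hab⟩ := quat_pair P.2 hF f hZP hZ1 hZZ
    obtain ⟨c, hc, d, hd, hcc, hdd, hcd⟩ := quat_pair h.R2 h.RF e hzR hz1 hzz
    have haa' : (a : G) * a = z := by rw [← hZz]; exact congrArg Subtype.val haa
    have hbb' : (b : G) * b = z := by rw [← hZz]; exact congrArg Subtype.val hbb
    have hab' : (a : G) * b = z * (b * a) := by rw [← hZz]; exact congrArg Subtype.val hab
    have hac : (a : G) * c = c * a := h.comm a a.2 c hc
    have had : (a : G) * d = d * a := h.comm a a.2 d hd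
    have hbc : (b : G) * c = c * b := h.comm b b.2 c hc
    have hbd : (b : G) * d = d * b := h.comm b b.2 d hd
    have hza : (a : G) * z = z * a := hzL a a.2
    have hzb : (b : G) * z = z * b := hzL b b.2
    have hzc : c * z = z * c := hzRc c hc
    have hzd : d * z = z * d := hzRc d hd
    have hzLm : z ∈ L := by rw [← hZz]; exact Z.2
    -- elements of `L ∩ R`
    have hLR : ∀ v : G, v ∈ L → v ∈ R → v = 1 ∨ v = z := by
      intro v hvL hvR
      exact hZ ⟨v, hvL⟩ (h.center_iff.2 hvR)
    have hnotL : ∀ v ∈ R, v * v = z → v ∉ L := by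
      intro v hv hvv hvL
      rcases hLR v hvL hv with h4 | h4
      · rw [h4, mul_one] at hvv
        exact hz1 hvv.symm
      · rw [h4, hzz] at hvv
        exact hz1 hvv.symm
    have hcL := hnotL c hc hcc
    have hdL := hnotL d hd hdd
    have hne : (a : G) * b ≠ b * a := by
      intro h3
      rw [h3] at hab'
      exact hz1 (mul_eq_right.1 hab'.symm)
    refine Cfsg.Agent.R2.RkInt.exists_eight (x := z) (y := a * c) (w := b * d) (hRS hzR)
      (mul_mem (hPS a ha) (hRS hc)) (mul_mem (hPS b hb) (hRS hd)) hz1 ?_ ?_ hzz ?_ ?_ ?_ ?_ ?_ ?_ ?_ ?_ ?_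
    · intro h3
      apply hcL
      have : c = (a : G)⁻¹ * (a * c) := by group
      rw [this, h3, mul_one]
      exact inv_mem a.2
    · intro h3
      apply hcL
      have : c = (a : G)⁻¹ * (a * c) := by group
      rw [this, ← h3]
      exact mul_mem (inv_mem a.2) hzLm
    · calc (a : G) * c * (a * c) = a * (c * a) * c := by group
        _ = a * (a * c) * c := by rw [hac]
        _ = (a * a) * (c * c) := by group
        _ = 1 := by rw [haa', hcc, hzz]
    · calc (b : G) * d * (b * d) = b * (d * b) * d := by group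
        _ = b * (b * d) * d := by rw [hbd]
        _ = (b * b) * (d * d) := by group
        _ = 1 := by rw [hbb', hdd, hzz]
    · calc z * ((a : G) * c) = (z * a) * c := by group
        _ = a * (z * c) := by rw [← hza]; group
        _ = a * c * z := by rw [← hzc]; group
    · calc z * ((b : G) * d) = (z * b) * d := by group
        _ = b * (z * d) := by rw [← hzb]; group
        _ = b * d * z := by rw [← hzd]; group
    · calc (a : G) * c * (b * d) = a * (c * b) * d := by group
        _ = (a * b) * (c * d) := by rw [← hbc]; group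
        _ = (z * (b * a)) * (z * (d * c)) := by rw [hab', hcd]
        _ = z * b * (a * z) * (d * c) := by group
        _ = z * b * (z * a) * (d * c) := by rw [hza]
        _ = z * (b * z) * (a * d) * c := by group
        _ = z * (z * b) * (d * a) * c := by rw [hzb, had]
        _ = (z * z) * (b * d * (a * c)) := by group
        _ = _ := by rw [hzz, one_mul]
    · intro h3
      apply hdL
      have : d = (b : G)⁻¹ * (b * d) := by group
      rw [this, h3, mul_one]
      exact inv_mem b.2
    · intro h3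
      apply hdL
      have : d = (b : G)⁻¹ * (b * d) := by group
      rw [this, h3]
      exact mul_mem (inv_mem b.2) hzLm
    · intro h3
      have h4 : (a : G)⁻¹ * b = c * d⁻¹ := by
        calc (a : G)⁻¹ * b = (a : G)⁻¹ * (b * d) * d⁻¹ := by group
          _ = (a : G)⁻¹ * (a * c) * d⁻¹ := by rw [h3]
          _ = _ := by group
      rcases hLR ((a : G)⁻¹ * b) (mul_mem (inv_mem a.2) b.2) (by rw [h4]; exact mul_mem hc (inv_mem hd)) with h5 | h5
      · apply hne
        rw [inv_mul_eq_one.1 h5]
      · apply hne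
        have h6 : (b : G) = a * z := by rw [← h5]; group
        rw [h6]
        calc (a : G) * (a * z) = a * (z * a) := by rw [hza]
          _ = _ := by group
    · intro h3
      have h4 : (a : G)⁻¹ * (z * b) = c * d⁻¹ := by
        calc (a : G)⁻¹ * (z * b) = (a : G)⁻¹ * z * (b * d) * d⁻¹ := by group
          _ = (a : G)⁻¹ * z * (z * (a * c)) * d⁻¹ := by rw [h3]
          _ = (a : G)⁻¹ * (z * z) * (a * c) * d⁻¹ := by group
          _ = _ := by rw [hzz]; group
      have h7 : (a : G)⁻¹ * (z * b) = (a : G)⁻¹ * b * z := by rw [← hzb]; group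
      rcases hLR ((a : G)⁻¹ * (z * b)) (mul_mem (inv_mem a.2) (mul_mem hzLm b.2))
        (by rw [h4]; exact mul_mem hc (inv_mem hd)) with h5 | h5
      · apply hne
        rw [h7] at h5
        have h6 : (b : G) = a * z := by
          calc (b : G) = a * ((a : G)⁻¹ * b * z) * z⁻¹ := by group
            _ = a * z⁻¹ := by rw [h5, mul_one]
            _ = a * z := by rw [inv_eq_of_mul_eq_one_left hzz]
        rw [h6]
        calc (a : G) * (a * z) = a * (z * a) := by rw [hza]
          _ = _ := by group
      · apply hne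
        rw [h7] at h5
        have h6 : (a : G)⁻¹ * b = 1 := mul_eq_right.1 h5
        rw [inv_mul_eq_one.1 h6]

end OC

end Cfsg.Agent.R2.RkInt
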