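import Cfsg.Agent.R2.RkInt.TwoComp

/-!
# Two components: the index and the structure of `L₁ L₂`
-/

set_option autoImplicit false
set_option linter.dupNamespace false

namespace Cfsg.Agent.R2.RkInt

open Subgroup Cfsg Cfsg.Agent.H335 Cfsg.Agent.TwoGenCore
open Cfsg.Agent.SignalizersComponents.Components

/-- a subgroup containing the Sylow 2-subgroups has odd index -/
theorem odd_index_of_le {G : Type*} [Group G] [Finite G] {E : Subgroup G} (S : Sylow 2 G) (h : (S : Subgroup G) ≤ E) :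
    Odd E.index := by
  have h2 : Fact (Nat.Prime 2) := ⟨Nat.prime_two⟩
  have h1 : (S : Subgroup G).index = (S : Subgroup G).relIndex E * E.index := (relIndex_mul_index h).symm
  have h3 : ¬ 2 ∣ (S : Subgroup G).index := S.not_dvd_index
  rw [← Nat.not_even_iff_odd, even_iff_two_dvd]
  intro h4
  exact h3 (h1 ▸ h4.mul_left _)

namespace TC

variable {G : Type*} [Group G] [Finite G] {L₁ L₂ : Subgroup G} {z : G}

/-- conjugation permutes the two components -/
theorem conj_cases (h : TC L₁ L₂ z) (g : G) :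
    (L₁.map (MulAut.conj g).toMonoidHom = L₁ ∧ L₂.map (MulAut.conj g).toMonoidHom = L₂) ∨
      (L₁.map (MulAut.conj g).toMonoidHom = L₂ ∧ L₂.map (MulAut.conj g).toMonoidHom = L₁) := by
  have hne : L₁.map (MulAut.conj g).toMonoidHom ≠ L₂.map (MulAut.conj g).toMonoidHom := fun h3 =>
    h.ne (map_injective (MulAut.conj g).injective h3)
  rcases h.only (isComponent_conj g h.c1) with h3 | h3 <;> rcases h.only (isComponent_conj g h.c2) with h4 | h4
  · exact absurd (h3.trans h4.symm) hne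
  · exact Or.inl ⟨h3, h4⟩
  · exact Or.inr ⟨h3, h4⟩
  · exact absurd (h3.trans h4.symm) hne

omit [Finite G] in
theorem mem_normalizer_iff_map {L : Subgroup G} {g : G} :
    g ∈ normalizer (L : Set G) ↔ L.map (MulAut.conj g).toMonoidHom = L := by
  constructor
  · intro hg
    ext x
    constructor
    · rintro ⟨y, hy, rfl⟩
      exact (mem_normalizer_iff.1 hg y).1 hy
    · intro hx
      refine ⟨g⁻¹ * x * g, ?_, ?_⟩
      · have := (mem_normalizer_iff.1 (inv_mem hg) x).1 hx
        rwa [inv_inv] at this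
      · change g * (g⁻¹ * x * g) * g⁻¹ = x
        group
  · intro h
    rw [mem_normalizer_iff]
    intro x
    constructor
    · intro hx
      rw [← h]
      exact ⟨x, hx, rfl⟩
    · intro hx
      rw [← h] at hx
      obtain ⟨y, hy, hyx⟩ := hx
      have h3 : y = x := by
        have : g * y * g⁻¹ = g * x * g⁻¹ := hyx
        exact mul_left_cancel (mul_right_cancel this)
      rw [← h3]
      exact hy

theorem index_normalizer (h : TC L₁ L₂ z) : (normalizer (L₁ : Set G)).index = 1 ∨ (normalizer (L₁ : Set G)).index = 2 := by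
  by_cases hall : ∀ g : G, g ∈ normalizer (L₁ : Set G)
  · left
    rw [index_eq_one]
    exact eq_top_iff.2 fun g _ => hall g
  · right
    push Not at hall
    obtain ⟨a, ha⟩ := hall
    have ha' : L₁.map (MulAut.conj a).toMonoidHom = L₂ ∧ L₂.map (MulAut.conj a).toMonoidHom = L₁ := by
      rcases h.conj_cases a with h3 | h3
      · exact absurd (mem_normalizer_iff_map.2 h3.1) ha
      · exact h3
    rw [index_eq_two_iff]
    refine ⟨a, fun b => ?_⟩
    have hmul : L₁.map (MulAut.conj (b * a)).toMonoidHom = (L₁.map (MulAut.conj a).toMonoidHom).map (MulAut.conj b).toMonoidHom := by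
      rw [Subgroup.map_map]
      congr 1
      ext x
      simp [mul_assoc]
    rw [mem_normalizer_iff_map, mem_normalizer_iff_map, hmul, ha'.1]
    rcases h.conj_cases b with h3 | h3
    · rw [h3.1, h3.2]
      exact Or.inr ⟨rfl, fun h4 => h.ne h4.symm⟩
    · rw [h3.1, h3.2]
      exact Or.inl ⟨rfl, fun h4 => h.ne h4.symm⟩

theorem sup_normal (h : TC L₁ L₂ z) : (L₁ ⊔ L₂).Normal := by
  refine ⟨fun x hx g => ?_⟩
  have h3 : (L₁ ⊔ L₂).map (MulAut.conj g).toMonoidHom = L₁ ⊔ L₂ := by
    rw [Subgroup.map_sup]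
    rcases h.conj_cases g with h3 | h3
    · rw [h3.1, h3.2]
    · rw [h3.1, h3.2, sup_comm]
  rw [← h3]
  exact ⟨x, hx, rfl⟩

theorem index_sup (h : TC L₁ L₂ z) : Odd (L₁ ⊔ L₂).index ∨ ∃ k : ℕ, Odd k ∧ (L₁ ⊔ L₂).index = 2 * k := by
  have h2 : Fact (Nat.Prime 2) := ⟨Nat.prime_two⟩
  set N := normalizer (L₁ : Set G) with hN
  have hNn : N.Normal := by
    refine ⟨fun x hx g => ?_⟩
    rw [hN, mem_normalizer_iff_map] at hx ⊢
    have h3 : L₁.map (MulAut.conj (g * x * g⁻¹)).toMonoidHom =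
        ((L₁.map (MulAut.conj g⁻¹).toMonoidHom).map (MulAut.conj x).toMonoidHom).map (MulAut.conj g).toMonoidHom := by
      rw [Subgroup.map_map, Subgroup.map_map]
      congr 1
      ext y
      simp [mul_assoc]
    have hx2 : L₂.map (MulAut.conj x).toMonoidHom = L₂ := by
      rcases h.conj_cases x with h4 | h4
      · exact h4.2
      · exact absurd (hx.symm.trans h4.1) h.ne
    have h5 : (L₁.map (MulAut.conj g⁻¹).toMonoidHom).map (MulAut.conj g).toMonoidHom = L₁ := by
      rw [Subgroup.map_map]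
      have : (MulAut.conj g).toMonoidHom.comp (MulAut.conj g⁻¹).toMonoidHom = MonoidHom.id G := by
        ext y
        simp [mul_assoc]
      rw [this, Subgroup.map_id]
    rw [h3]
    rcases h.conj_cases g⁻¹ with h4 | h4
    · rw [h4.1, hx]
      rw [h4.1] at h5
      exact h5
    · rw [h4.1, hx2]
      rw [h4.1] at h5
      exact h5
  have hL₁N : L₁ ≤ N := le_normalizer
  have hL₂N : L₂ ≤ N := by
    intro x hx
    rw [hN]
    apply Subgroup.centralizer_le_normalizer
    rw [mem_centralizer_iff]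
    intro y hy
    exact h.comm y hy x hx
  have hc1 : IsComponent (L₁.subgroupOf N) := isComponent_subgroupOf hL₁N h.c1
  have hc2 : IsComponent (L₂.subgroupOf N) := isComponent_subgroupOf hL₂N h.c2
  have hcne : L₁.subgroupOf N ≠ L₂.subgroupOf N := by
    intro h3
    apply h.ne
    have h4 := congrArg (Subgroup.map N.subtype) h3
    rwa [subgroupOf_map_subtype, subgroupOf_map_subtype, inf_eq_left.2 hL₁N, inf_eq_left.2 hL₂N] at h4
  have hNs : ¬ Group.IsSolvable N := by
    intro h3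
    exact quasisimple_not_isSolvable h.c1.2
      (Group.isSolvable_of_isSolvable_injective (f := inclusion hL₁N) (inclusion_injective hL₁N))
  have hNO : oddCore N = ⊥ := by
    have h3 := Lib.Cores.map_subtype_pPrimeCore (G := G) 2 hNn
    have h4 : pPrimeCore 2 G = ⊥ := h.core
    rw [h4, inf_bot_eq, Subgroup.map_eq_bot_iff_of_injective _ N.subtype_injective] at h3
    exact h3
  obtain ⟨z', hz'⟩ := exists_tc (h.rk.subgroup N) hNs hNO hc1 hc2 hcne
  have hn1 : (L₁.subgroupOf N).Normal := normal_subgroupOf_of_le_normalizer le_rfl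
  have hn2 : (L₂.subgroupOf N).Normal := by
    refine normal_subgroupOf_of_le_normalizer ?_
    intro x hx
    rw [mem_normalizer_iff_map]
    rw [hN, mem_normalizer_iff_map] at hx
    rcases h.conj_cases x with h4 | h4
    · exact h4.2
    · exact absurd (hx.symm.trans h4.1) h.ne
  obtain ⟨S⟩ : Nonempty (Sylow 2 N) := inferInstance
  have h3 := odd_index_of_le S (hz'.le_of_normal hn1 hn2 S)
  have h4 : (L₁ ⊔ L₂).relIndex N = (L₁.subgroupOf N ⊔ L₂.subgroupOf N).index := by
    rw [← subgroupOf_sup hL₁N hL₂N]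
    rfl
  have h5 : (L₁ ⊔ L₂).relIndex N * N.index = (L₁ ⊔ L₂).index := relIndex_mul_index (sup_le hL₁N hL₂N)
  rcases h.index_normalizer with h6 | h6
  · left
    rw [← h5, h4, h6, mul_one]
    exact h3
  · right
    refine ⟨_, h3, ?_⟩
    rw [← h5, h4, h6, mul_comm]

theorem equiv (h : TC L₁ L₂ z) :
    ∃ (Z : Subgroup (Matrix.SpecialLinearGroup (Fin 2) (ZMod 5) × Matrix.SpecialLinearGroup (Fin 2) (ZMod 5)))
      (_ : Z.Normal),
      Z = Subgroup.zpowers ((-1 : Matrix.SpecialLinearGroup (Fin 2) (ZMod 5)), (-1 : Matrix.SpecialLinearGroup (Fin 2) (ZMod 5))) ∧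
      Nonempty (↥(L₁ ⊔ L₂) ≃*
        (Matrix.SpecialLinearGroup (Fin 2) (ZMod 5) × Matrix.SpecialLinearGroup (Fin 2) (ZMod 5)) ⧸ Z) := by
  have h5p : Fact (Nat.Prime 5) := ⟨Nat.prime_five⟩
  obtain ⟨ψ₁⟩ := h.five
  obtain ⟨ψ₂⟩ := h.symm.five
  have hodd : Odd (Fintype.card (ZMod 5)) := by rw [ZMod.card]; decide
  have e1 : ψ₁ ⟨z, h.zL1⟩ = -1 := by
    apply TwoFusion.QuatCoverSL.eq_neg_one_of_orderOf_two hodd
    rw [MulEquiv.orderOf_eq, Subgroup.orderOf_mk]
    exact orderOf_eq_two h.z1 h.zz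
  have e2 : ψ₂ ⟨z, h.zL2⟩ = -1 := by
    apply TwoFusion.QuatCoverSL.eq_neg_one_of_orderOf_two hodd
    rw [MulEquiv.orderOf_eq, Subgroup.orderOf_mk]
    exact orderOf_eq_two h.z1 h.zz
  have e1' : ((ψ₁.symm (-1) : L₁) : G) = z := by rw [← e1, ψ₁.symm_apply_apply]
  have e2' : ((ψ₂.symm (-1) : L₂) : G) = z := by rw [← e2, ψ₂.symm_apply_apply]
  let φ : Matrix.SpecialLinearGroup (Fin 2) (ZMod 5) × Matrix.SpecialLinearGroup (Fin 2) (ZMod 5) →* G :=
    { toFun := fun p => (ψ₁.symm p.1 : G) * (ψ₂.symm p.2 : G)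
      map_one' := by simp
      map_mul' := by
        rintro ⟨a, b⟩ ⟨c, d⟩
        change (ψ₁.symm (a * c) : G) * (ψ₂.symm (b * d) : G) =
          (ψ₁.symm a : G) * (ψ₂.symm b : G) * ((ψ₁.symm c : G) * (ψ₂.symm d : G))
        rw [map_mul, map_mul, coe_mul, coe_mul]
        have h3 := h.comm _ (ψ₁.symm c).2 _ (ψ₂.symm b).2
        calc ((ψ₁.symm a : L₁) : G) * (ψ₁.symm c : L₁) * ((ψ₂.symm b : L₂) * (ψ₂.symm d : L₂))
            = ((ψ₁.symm a : L₁) : G) * ((ψ₁.symm c : L₁) * (ψ₂.symm b : L₂)) * (ψ₂.symm d : L₂) := by group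
          _ = ((ψ₁.symm a : L₁) : G) * ((ψ₂.symm b : L₂) * (ψ₁.symm c : L₁)) * (ψ₂.symm d : L₂) := by rw [h3]
          _ = _ := by group }
  have hφ : ∀ a b, φ (a, b) = (ψ₁.symm a : G) * (ψ₂.symm b : G) := fun a b => rfl
  have hrange : φ.range = L₁ ⊔ L₂ := by
    apply le_antisymm
    · rintro _ ⟨⟨a, b⟩, rfl⟩
      rw [hφ]
      exact mul_mem (mem_sup_left (ψ₁.symm a).2) (mem_sup_right (ψ₂.symm b).2)
    · refine sup_le ?_ ?_
      · intro x hx
        refine ⟨(ψ₁ ⟨x, hx⟩, 1), ?_⟩
        rw [hφ, ψ₁.symm_apply_apply, map_one]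
        simp
      · intro x hx
        refine ⟨(1, ψ₂ ⟨x, hx⟩), ?_⟩
        rw [hφ, ψ₂.symm_apply_apply, map_one]
        simp
  have hker : φ.ker = Subgroup.zpowers ((-1 : Matrix.SpecialLinearGroup (Fin 2) (ZMod 5)),
      (-1 : Matrix.SpecialLinearGroup (Fin 2) (ZMod 5))) := by
    apply le_antisymm
    · rintro ⟨a, b⟩ hab
      rw [MonoidHom.mem_ker, hφ] at hab
      have h3 : ((ψ₁.symm a : L₁) : G) = ((ψ₂.symm b : L₂) : G)⁻¹ := eq_inv_of_mul_eq_one_left hab
      have h4 : (ψ₁.symm a) ∈ center L₁ := by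
        rw [mem_center_iff]
        intro g
        apply Subtype.ext
        change (g : G) * (ψ₁.symm a : L₁) = (ψ₁.symm a : L₁) * g
        rw [h3]
        exact h.comm g g.2 _ (inv_mem (ψ₂.symm b).2)
      rcases (h.ctr1 _).1 h4 with h5 | h5
      · have ha : a = 1 := by
          have : ψ₁.symm a = 1 := Subtype.ext h5
          rwa [EmbeddingLike.map_eq_one_iff] at this
        rw [h5, one_mul] at hab
        have hb : b = 1 := by
          have : ψ₂.symm b = 1 := Subtype.ext hab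
          rwa [EmbeddingLike.map_eq_one_iff] at this
        rw [ha, hb]
        exact one_mem _
      · have ha : a = -1 := by
          have : ψ₁.symm a = ψ₁.symm (-1) := Subtype.ext (h5.trans e1'.symm)
          exact ψ₁.symm.injective this
        have hb' : ((ψ₂.symm b : L₂) : G) = z := by
          rw [h5] at h3
          have h6 : ((ψ₂.symm b : L₂) : G) = z⁻¹ := by rw [h3, inv_inv]
          rw [h6]
          exact inv_eq_of_mul_eq_one_left h.zz
        have hb : b = -1 := by
          have : ψ₂.symm b = ψ₂.symm (-1) := Subtype.ext (hb'.trans e2'.symm)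
          exact ψ₂.symm.injective this
        rw [ha, hb]
        exact mem_zpowers _
    · rw [zpowers_le, MonoidHom.mem_ker, hφ, e1', e2', h.zz]
  refine ⟨φ.ker, inferInstance, hker, ⟨?_⟩⟩
  exact (MulEquiv.subgroupCongr hrange.symm).trans (QuotientGroup.quotientKerEquivRange φ).symm

end TC

end Cfsg.Agent.R2.RkInt
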