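import Cfsg.Agent.R2.RkInt.Eight
import Cfsg.Agent.R2.RkInt.TwoFinal

/-!
# The lift to `G`
-/

set_option autoImplicit false
set_option linter.dupNamespace false

namespace Cfsg.Agent.R2.RkInt

open Subgroup Cfsg Cfsg.Agent.H335 Cfsg.Agent.TwoGenCore
open Cfsg.Agent.SignalizersComponents.Components

/-- sections of a surjective homomorphism -/
theorem sectionEquiv' {G K : Type*} [Group G] [Group K] (θ : G →* K) (hθ : Function.Surjective θ) (L : Subgroup K) :
    Nonempty (↥(L.comap θ) ⧸ θ.ker.subgroupOf (L.comap θ) ≃* L) := by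
  set M := L.comap θ with hM
  let f : M →* L := (θ.comp M.subtype).codRestrict L fun x => x.2
  have hf : Function.Surjective f := by
    rintro ⟨y, hy⟩
    obtain ⟨x, rfl⟩ := hθ y
    exact ⟨⟨x, hy⟩, rfl⟩
  have hk : f.ker = θ.ker.subgroupOf M := by
    ext x
    rw [MonoidHom.mem_ker, mem_subgroupOf, MonoidHom.mem_ker]
    constructor
    · intro h
      exact congrArg Subtype.val h
    · intro h
      exact Subtype.ext h
  exact ⟨(QuotientGroup.quotientMulEquivOfEq hk.symm).trans (QuotientGroup.quotientKerEquivOfSurjective f hf)⟩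

section lift

variable {G : Type*} [Group G] [Finite G]

theorem odd_ker : Odd (Nat.card (QuotientGroup.mk' (oddCore G)).ker) := by
  rw [QuotientGroup.ker_mk']
  exact Nat.coprime_two_right.1 (Lib.Cores.pPrimeCore_coprime (G := G) 2)

/-- elementary abelian subgroups of the Sylow 2-subgroups lift -/
theorem lift_eight {S : Sylow 2 G} {A : Subgroup (G ⧸ oddCore G)}
    (hA : A ≤ (S : Subgroup G).map (QuotientGroup.mk' (oddCore G))) (hAe : Cfsg.IsElementaryAbelian 2 A)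
    (h8 : 8 ≤ Nat.card A) : ∃ B ≤ (S : Subgroup G), Cfsg.IsElementaryAbelian 2 B ∧ 8 ≤ Nat.card B := by
  have hinj : ∀ x ∈ (S : Subgroup G), QuotientGroup.mk' (oddCore G) x = 1 → x = 1 := by
    intro x hx h1
    refine eq_one_of_ker odd_ker ?_ h1
    obtain ⟨k, hk⟩ := S.2 ⟨x, hx⟩
    exact ⟨k, congrArg Subtype.val hk⟩
  set B := (S : Subgroup G) ⊓ A.comap (QuotientGroup.mk' (oddCore G)) with hB
  have hcomm : ∀ a ∈ B, ∀ b ∈ B, a * b = b * a := by
    intro a ha b hb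
    have h3 : QuotientGroup.mk' (oddCore G) a * QuotientGroup.mk' (oddCore G) b =
        QuotientGroup.mk' (oddCore G) b * QuotientGroup.mk' (oddCore G) a :=
      congrArg Subtype.val (hAe.1.is_comm.comm ⟨_, ha.2⟩ ⟨_, hb.2⟩)
    have h4 : QuotientGroup.mk' (oddCore G) (a * b * (b * a)⁻¹) = 1 := by
      rw [map_mul, map_inv, map_mul, map_mul, h3, mul_inv_cancel]
    exact mul_inv_eq_one.1 (hinj _ (mul_mem (mul_mem ha.1 hb.1) (inv_mem (mul_mem hb.1 ha.1))) h4)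
  refine ⟨B, inf_le_left, ⟨⟨⟨fun a b => Subtype.ext (hcomm a a.2 b b.2)⟩⟩, ?_⟩, ?_⟩
  · intro a ha
    apply hinj _ (pow_mem ha.1 2)
    rw [map_pow]
    exact hAe.2 _ ha.2
  · have hmap : B.map (QuotientGroup.mk' (oddCore G)) = A := by
      apply le_antisymm
      · rintro _ ⟨x, hx, rfl⟩
        exact hx.2
      · intro y hy
        obtain ⟨x, hx, rfl⟩ := hA hy
        exact ⟨x, ⟨hx, hy⟩, rfl⟩
    rw [← hmap] at h8
    refine h8.trans ?_
    exact Nat.le_of_dvd Nat.card_pos (Subgroup.card_map_dvd _ _)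

/-- the structure of the preimage of `O₂(G / O(G))` if `O(G)` centralises a Sylow 2-subgroup -/
theorem core_lift (S : Sylow 2 G) (hc : oddCore G ≤ centralizer ((S : Subgroup G) : Set G)) :
    pCore 2 G ⊔ oddCore G = (pCore 2 (G ⧸ oddCore G)).comap (QuotientGroup.mk' (oddCore G)) ∧
      Nonempty (pCore 2 G ≃* pCore 2 (G ⧸ oddCore G)) := by
  have h2 : Fact (Nat.Prime 2) := ⟨Nat.prime_two⟩
  have hOn : (oddCore G).Normal := Lib.Cores.pPrimeCore_normal 2
  set O := oddCore G with hO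
  set π := QuotientGroup.mk' O with hπ
  have hRn : (pCore 2 (G ⧸ O)).Normal := Lib.Cores.pCore_normal 2
  set R := pCore 2 (G ⧸ O) with hR
  set K := R.comap π with hK
  have hKn : K.Normal := inferInstance
  have hinj : ∀ x ∈ (S : Subgroup G), π x = 1 → x = 1 := by
    intro x hx h1
    refine eq_one_of_ker odd_ker ?_ h1
    obtain ⟨k, hk⟩ := S.2 ⟨x, hx⟩
    exact ⟨k, congrArg Subtype.val hk⟩
  let T : Sylow 2 (G ⧸ O) := S.mapSurjective (QuotientGroup.mk'_surjective O)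
  have hRT : R ≤ (S : Subgroup G).map π := Lib.Cores.pCore_le_sylow T
  -- `K = (S ∩ K) O`
  have hfac : ∀ k ∈ K, ∃ s ∈ (S : Subgroup G) ⊓ K, ∃ o ∈ O, k = s * o := by
    intro k hk
    obtain ⟨s, hs, hsk⟩ := hRT hk
    have ho : s⁻¹ * k ∈ O := QuotientGroup.eq.1 hsk
    refine ⟨s, ⟨hs, ?_⟩, s⁻¹ * k, ho, by group⟩
    change π s ∈ R
    rw [hsk]
    exact hk
  obtain ⟨P, hP⟩ := PLocal.ThompsonFrattini.exists_sylow_subgroupOf S K
  have hPn : (P : Subgroup K).Normal := by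
    refine ⟨fun u hu k => ?_⟩
    rw [hP] at hu ⊢
    obtain ⟨s, hs, o, ho, hk⟩ := hfac k k.2
    have huS : (u : G) ∈ (S : Subgroup G) := hu
    have h3 : o * (u : G) = u * o := (mem_centralizer_iff.1 (hc ho) u huS).symm
    change (k : G) * u * (k : G)⁻¹ ∈ (S : Subgroup G)
    have h4 : (k : G) * u * (k : G)⁻¹ = s * u * s⁻¹ := by
      calc (k : G) * u * (k : G)⁻¹ = s * (o * u) * o⁻¹ * s⁻¹ := by rw [hk]; group
        _ = s * (u * o) * o⁻¹ * s⁻¹ := by rw [h3]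
        _ = _ := by group
    rw [h4]
    exact (S : Subgroup G).mul_mem ((S : Subgroup G).mul_mem hs.1 huS) ((S : Subgroup G).inv_mem hs.1)
  have hPc : (P : Subgroup K).Characteristic := P.characteristic_of_normal hPn
  have hU : (P : Subgroup K).map K.subtype = (S : Subgroup G) ⊓ K := by
    rw [hP, subgroupOf_map_subtype]
  have hUn : ((S : Subgroup G) ⊓ K).Normal := by
    rw [← hU]
    infer_instance
  have hcore : pCore 2 G = (S : Subgroup G) ⊓ K := by
    apply le_antisymm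
    · refine le_inf (Lib.Cores.pCore_le_sylow S) ?_
      rw [hK, ← Subgroup.map_le_iff_le_comap]
      exact Lib.Cores.le_pCore (Subgroup.Normal.map (Lib.Cores.pCore_normal 2) π (QuotientGroup.mk'_surjective O))
        ((Lib.Cores.pCore_isPGroup 2).map π)
    · exact Lib.Cores.le_pCore hUn (S.2.to_le inf_le_left)
  refine ⟨?_, ⟨?_⟩⟩
  · rw [hcore]
    apply le_antisymm
    · refine sup_le inf_le_right ?_
      intro o ho
      change π o ∈ R
      rw [show π o = 1 from (QuotientGroup.eq_one_iff o).2 ho]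
      exact one_mem _
    · intro k hk
      obtain ⟨s, hs, o, ho, rfl⟩ := hfac k hk
      exact mul_mem (mem_sup_left hs) (mem_sup_right ho)
  · rw [hcore]
    let f : ↥((S : Subgroup G) ⊓ K) →* R := (π.comp ((S : Subgroup G) ⊓ K).subtype).codRestrict R fun x => x.2.2
    refine MulEquiv.ofBijective f ⟨?_, ?_⟩
    · rw [injective_iff_map_eq_one]
      intro x hx
      exact Subtype.ext (hinj x x.2.1 (congrArg Subtype.val hx))
    · rintro ⟨y, hy⟩
      obtain ⟨s, hs, rfl⟩ := hRT hy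
      exact ⟨⟨s, hs, hy⟩, rfl⟩

end lift

theorem bList_subst {G : Type*} [Group G] {G₁ M N : Subgroup G} (hMN : M = N)
    [hn : (N.subgroupOf G₁).Normal] [hm : (M.subgroupOf G₁).Normal]
    (h : BList (↥G₁ ⧸ N.subgroupOf G₁)) : BList (↥G₁ ⧸ M.subgroupOf G₁) := by
  subst hMN
  exact h

/-- case (a) -/
theorem case_a {G : Type*} [Group G] [Finite G] (h : RkInt G) {L : Subgroup (G ⧸ oddCore G)}
    (hL : OC L (pCore 2 (G ⧸ oddCore G)))
    (hS4 : ∀ S : Sylow 2 (G ⧸ oddCore G), Four (S : Subgroup (G ⧸ oddCore G)))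
    (h3 : ∃ S T : Sylow 2 (G ⧸ oddCore G), S ≠ T ∧
      ¬ IsCyclic ↥((S : Subgroup (G ⧸ oddCore G)) ⊓ (T : Subgroup (G ⧸ oddCore G)))) :
    ∃ (G₁ : Subgroup G) (_ : G₁.Normal) (_ : ((Cfsg.pCore 2 G ⊔ Cfsg.oddCore G).subgroupOf G₁).Normal),
      Odd G₁.index ∧ Cfsg.pCore 2 G ⊔ Cfsg.oddCore G ≤ G₁ ∧
      (∃ n : ℕ, Nonempty (↥(Cfsg.pCore 2 G) ≃* QuaternionGroup (2 ^ (n + 1)))) ∧
      BList (↥G₁ ⧸ (Cfsg.pCore 2 G ⊔ Cfsg.oddCore G).subgroupOf G₁) := by
  have h2 : Fact (Nat.Prime 2) := ⟨Nat.prime_two⟩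
  have hOn : (oddCore G).Normal := Lib.Cores.pPrimeCore_normal 2
  have hLn := hL.normal
  have hsim := hL.simple
  have hRn := hL.Rnormal
  obtain ⟨hT, hsp⟩ := hL.tiz_split hS4 h3
  obtain ⟨S₁, T₁, hne, hcyc⟩ := h3
  have hint := hL.inter hT (hsp S₁) (hsp T₁) hne
  have hRc : ¬ IsCyclic (pCore 2 (G ⧸ oddCore G)) := fun hc => hcyc (isCyclic_of_le hint hc)
  obtain ⟨n, ⟨e⟩⟩ := (cyclic_or_quat hL.R2 hL.RF).resolve_left hRc
  obtain ⟨S⟩ : Nonempty (Sylow 2 G) := inferInstance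
  let T : Sylow 2 (G ⧸ oddCore G) := S.mapSurjective (QuotientGroup.mk'_surjective (oddCore G))
  obtain ⟨A, hA, hAe, h8⟩ := hL.exists_eight hT e T
  obtain ⟨B, hB, hBe, hB8⟩ := lift_eight (S := S) hA hAe h8
  obtain ⟨hcomap, ⟨e₀⟩⟩ := core_lift S (oddCore_le h S hB hBe hB8)
  -- the homomorphism onto `G / O₂(G) O(G)`
  set π := QuotientGroup.mk' (oddCore G) with hπ
  set R := pCore 2 (G ⧸ oddCore G) with hR
  let ρ := QuotientGroup.mk' R
  let θ : G →* (G ⧸ oddCore G) ⧸ R := ρ.comp π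
  have hθ : Function.Surjective θ := (QuotientGroup.mk'_surjective R).comp (QuotientGroup.mk'_surjective (oddCore G))
  have hker : Cfsg.pCore 2 G ⊔ Cfsg.oddCore G = θ.ker := by
    rw [hcomap]
    ext x
    rw [mem_comap, MonoidHom.mem_ker]
    exact (QuotientGroup.eq_one_iff (π x)).symm
  set M := L.map ρ with hM
  have hMn : M.Normal := hLn.map ρ (QuotientGroup.mk'_surjective R)
  set G₁ := M.comap θ with hG₁
  have hG₁n : G₁.Normal := inferInstance
  have hle : (T : Subgroup (G ⧸ oddCore G)).map ρ ≤ M := by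
    rintro _ ⟨x, hx, rfl⟩
    have hx' : x ∈ (T : Subgroup (G ⧸ oddCore G)) ⊓ L ⊔ R := by rw [← hsp T]; exact hx
    rw [mem_sup_of_normal_right] at hx'
    obtain ⟨y, hy, r, hr, rfl⟩ := hx'
    have hρr : ρ r = 1 := (QuotientGroup.eq_one_iff r).2 hr
    rw [map_mul, hρr, mul_one]
    exact ⟨y, hy.2, rfl⟩
  have hodd : Odd G₁.index := by
    rw [hG₁, index_comap_of_surjective M hθ]
    exact odd_index_of_le (T.mapSurjective (QuotientGroup.mk'_surjective R)) hle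
  -- `M ≅ L / Z(L)`
  have hML : Nonempty (L ⧸ center L ≃* M) := by
    let f : L →* (G ⧸ oddCore G) ⧸ R := ρ.comp L.subtype
    have hf : f.ker = center L := by
      ext x
      rw [MonoidHom.mem_ker, hL.center_iff]
      exact QuotientGroup.eq_one_iff (x : G ⧸ oddCore G)
    have hr : f.range = M := by
      rw [hM]
      ext y
      constructor
      · rintro ⟨x, rfl⟩
        exact ⟨x, x.2, rfl⟩
      · rintro ⟨x, hx, rfl⟩
        exact ⟨⟨x, hx⟩, rfl⟩
    exact ⟨(QuotientGroup.quotientMulEquivOfEq hf.symm).trans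
      ((QuotientGroup.quotientKerEquivRange f).trans (MulEquiv.subgroupCongr hr))⟩
  obtain ⟨eM⟩ := hML
  obtain ⟨eS⟩ := sectionEquiv' θ hθ M
  have hkn : (θ.ker.subgroupOf G₁).Normal := inferInstance
  have hb : BList (L ⧸ center L) := bList_of_tiz hL.perf hL.center_two hT
  have hb' : BList (↥G₁ ⧸ θ.ker.subgroupOf G₁) := by
    have e' : ↥G₁ ⧸ θ.ker.subgroupOf G₁ ≃* L ⧸ center L := eS.trans eM.symm
    rcases hb with ⟨F, i1, i2, hn, ⟨f⟩⟩ | ⟨F, i1, i2, m, hm, hF, ⟨f⟩⟩ | ⟨F, i1, i2, m, hm, hF, ⟨f⟩⟩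
    · exact Or.inl ⟨F, i1, i2, hn, ⟨e'.trans f⟩⟩
    · exact Or.inr (Or.inl ⟨F, i1, i2, m, hm, hF, ⟨e'.trans f⟩⟩)
    · exact Or.inr (Or.inr ⟨F, i1, i2, m, hm, hF, ⟨e'.trans f⟩⟩)
  have hkle : θ.ker ≤ G₁ := by
    intro x hx
    change θ x ∈ M
    rw [MonoidHom.mem_ker.1 hx]
    exact one_mem _
  have hn' : ((Cfsg.pCore 2 G ⊔ Cfsg.oddCore G).subgroupOf G₁).Normal := by
    rw [hker]
    exact hkn
  refine ⟨G₁, hG₁n, hn', hodd, ?_, ⟨n, ⟨e₀.trans e⟩⟩, ?_⟩
  · rw [hker]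
    exact hkle
  · exact bList_subst hker hb'

end Cfsg.Agent.R2.RkInt
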