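import Cfsg.Agent.R2.RkInt.Basic
import Cfsg.Agent.Classification.RankOneCore
import Cfsg.Agent.H335.Fusion

/-!
# 2-groups without four-groups
-/

set_option autoImplicit false
set_option linter.dupNamespace false

namespace Cfsg.Agent.R2.RkInt

open Subgroup Cfsg Cfsg.Agent.TwoGenCore Cfsg.Agent.H335

variable {G K : Type*} [Group G] [Group K]

theorem not_four_iff [Finite G] {X : Subgroup G} : ¬ Four X ↔ PRankLE 2 1 X := by
  rw [← not_pRankLE_one_iff, not_not]

/-- a 2-group without four-groups is cyclic or quaternion -/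
theorem cyclic_or_quat [Finite G] {X : Subgroup G} (hX : IsPGroup 2 X) (h : ¬ Four X) :
    IsCyclic X ∨ ∃ n : ℕ, Nonempty (X ≃* QuaternionGroup (2 ^ (n + 1))) := by
  rcases Classification.RankOneCore.cyclic_or_quaternion hX (not_four_iff.1 h) with h1 | ⟨n, ⟨e⟩⟩
  · exact Or.inl h1
  · rcases n with _ | n
    · left
      have h2 : IsCyclic (QuaternionGroup (2 ^ 0)) := by
        rw [pow_zero]
        exact QuaternionGroup.quaternionGroup_one_isCyclic
      exact isCyclic_of_injective e.toMonoidHom e.injective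
    · exact Or.inr ⟨n, ⟨e⟩⟩

/-- the product of commuting involutions -/
theorem four_of_pair {X : Subgroup G} {x y : G} (hx : x ∈ X) (hy : y ∈ X) (hx1 : x ≠ 1) (hy1 : y ≠ 1) (hxy : x ≠ y)
    (hxx : x * x = 1) (hyy : y * y = 1) (hc : x * y = y * x) : Four X :=
  ⟨x, hx, y, hy, hx1, hy1, hxy, hxx, hyy, hc⟩

/-- the unique involution -/
theorem eq_of_not_four {X : Subgroup G} (h : ¬ Four X) {x y : G} (hx : x ∈ X) (hy : y ∈ X) (hx1 : x ≠ 1) (hy1 : y ≠ 1)
    (hxx : x * x = 1) (hyy : y * y = 1) (hc : x * y = y * x) : x = y := by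
  by_contra hxy
  exact h (four_of_pair hx hy hx1 hy1 hxy hxx hyy hc)

/-- there is a central involution -/
theorem exists_inv [Finite G] {X : Subgroup G} (hX : IsPGroup 2 X) (hne : X ≠ ⊥) :
    ∃ z ∈ X, z ≠ 1 ∧ z * z = 1 ∧ ∀ g ∈ X, g * z = z * g := by
  obtain ⟨x, hx, hx2, hxc⟩ := exists_central_involution hX hne
  refine ⟨x, hx, ?_, ?_, ?_⟩
  · rintro rfl
    simp at hx2
  · rw [← pow_two, ← hx2]
    exact pow_orderOf_eq_one x
  · exact hxc

/-- unique involution without commuting assumption -/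
theorem eq_of_not_four' [Finite G] {X : Subgroup G} (hX : IsPGroup 2 X) (h : ¬ Four X) {x y : G} (hx : x ∈ X)
    (hy : y ∈ X) (hx1 : x ≠ 1) (hy1 : y ≠ 1) (hxx : x * x = 1) (hyy : y * y = 1) : x = y := by
  have hne : X ≠ ⊥ := by
    rintro rfl
    exact hx1 (mem_bot.1 hx)
  obtain ⟨z, hz, hz1, hzz, hzc⟩ := exists_inv hX hne
  rw [eq_of_not_four h hx hz hx1 hz1 hxx hzz (hzc x hx), eq_of_not_four h hy hz hy1 hz1 hyy hzz (hzc y hy)]

/-- a square root of the involution below an element -/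
theorem exists_root [Finite G] {X : Subgroup G} (hX : IsPGroup 2 X) (h : ¬ Four X) {z x : G} (hz : z ∈ X) (hz1 : z ≠ 1)
    (hzz : z * z = 1) (hx : x ∈ X) (hx1 : x ≠ 1) (hxz : x ≠ z) : ∃ k : ℕ, x ^ k * x ^ k = z := by
  have h2 : Fact (Nat.Prime 2) := ⟨Nat.prime_two⟩
  obtain ⟨n, hn⟩ := hX ⟨x, hx⟩
  have hn' : x ^ 2 ^ n = 1 := congrArg Subtype.val hn
  have h3 : ¬ x ^ 2 ^ 0 = 1 := by rw [pow_zero, pow_one]; exact hx1
  -- the last nontrivial power
  obtain ⟨m, hm1, hm2⟩ : ∃ m, x ^ 2 ^ m ≠ 1 ∧ x ^ 2 ^ (m + 1) = 1 := by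
    by_contra hcon
    push Not at hcon
    have : ∀ k, x ^ 2 ^ k ≠ 1 := by
      intro k
      induction k with
      | zero => exact h3
      | succ k ih => exact hcon k ih
    exact this n hn'
  have h4 : x ^ 2 ^ m * x ^ 2 ^ m = 1 := by
    rw [← pow_add, ← two_mul, ← pow_succ']
    exact hm2
  have h5 : x ^ 2 ^ m = z := eq_of_not_four' hX h (pow_mem hx _) hz hm1 hz1 h4 hzz
  rcases m with _ | m
  · rw [pow_zero, pow_one] at h5
    exact absurd h5 hxz
  · refine ⟨2 ^ m, ?_⟩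
    rw [← pow_add, ← two_mul, ← pow_succ']
    exact h5

/-- an element of order 4 -/
theorem exists_root' [Finite G] {X : Subgroup G} (hX : IsPGroup 2 X) (h : ¬ Four X) {z x : G} (hz : z ∈ X) (hz1 : z ≠ 1)
    (hzz : z * z = 1) (hx : x ∈ X) (hx1 : x ≠ 1) (hxz : x ≠ z) : ∃ a ∈ X, a * a = z ∧ ∃ k : ℕ, a = x ^ k := by
  obtain ⟨k, hk⟩ := exists_root hX h hz hz1 hzz hx hx1 hxz
  exact ⟨x ^ k, pow_mem hx k, hk, k, rfl⟩

/-- a commutative 2-group without four-groups is cyclic -/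
theorem cyclic_of_comm [Finite G] {X : Subgroup G} (hX : IsPGroup 2 X) (h : ¬ Four X)
    (hc : ∀ a ∈ X, ∀ b ∈ X, a * b = b * a) : IsCyclic X := by
  rcases cyclic_or_quat hX h with h1 | ⟨n, ⟨e⟩⟩
  · exact h1
  · exfalso
    have h3 : ∀ a b : QuaternionGroup (2 ^ (n + 1)), a * b = b * a := by
      intro a b
      have h4 := hc (e.symm a) (e.symm a).2 (e.symm b) (e.symm b).2
      have h5 : e.symm a * e.symm b = e.symm b * e.symm a := Subtype.ext h4
      rw [← map_mul, ← map_mul] at h5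
      exact e.symm.injective h5
    have h4 := h3 (QuaternionGroup.a 1) (QuaternionGroup.xa 0)
    rw [QuaternionGroup.a_mul_xa, QuaternionGroup.xa_mul_a] at h4
    have h5 : (0 - 1 : ZMod (2 * 2 ^ (n + 1))) = 0 + 1 := by
      injection h4
    have h6 : ((2 : ℕ) : ZMod (2 * 2 ^ (n + 1))) = 0 := by
      have : (2 : ZMod (2 * 2 ^ (n + 1))) = (0 + 1) - (0 - 1) := by ring
      rw [Nat.cast_ofNat, this, h5, sub_self]
    rw [ZMod.natCast_eq_zero_iff] at h6
    have h7 := Nat.le_of_dvd (by norm_num) h6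
    have h8 : 2 ≤ 2 ^ (n + 1) := by
      calc 2 = 2 ^ 1 := by norm_num
        _ ≤ 2 ^ (n + 1) := Nat.pow_le_pow_right (by norm_num) (by omega)
    omega

end Cfsg.Agent.R2.RkInt
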