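import Cfsg.Agent.AschCrit.FourGroup
import Cfsg.Agent.Characters.CNBasic
import Cfsg.Agent.S0502
import Cfsg.Agent.R2.RkInt.Closed
import Cfsg.Agent.R2.RkInt.RankOne
import Cfsg.Agent.R2.RkInt.Quasi

/-!
# Good involutions modulo a central 2-subgroup

* `exists_x` : a 2-group with a normal four-group and a central involution `z` contains an involution `x ≠ z` with
  `[x, P] ≤ ⟨z⟩`; `exists_x_of_no_index_two`;
* `closed_quot` : such an `x` yields a strongly closed abelian subgroup of `S / Z`.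
-/

set_option autoImplicit false
set_option linter.dupNamespace false

namespace Cfsg.Agent.R2.RkInt

open Subgroup Cfsg Cfsg.Agent.TwoGenCore Cfsg.Agent.H335

variable {G : Type*} [Group G] [Finite G]

theorem exists_x {P : Subgroup G} (hP : IsPGroup 2 P) (E : Subgroup P) (hE : IsKleinFour E) (hEn : E.Normal) {z : G}
    (hz : z ∈ P) (hz1 : z ≠ 1) (hzc : ∀ s ∈ P, s * z = z * s) (hzz : z * z = 1) :
    ∃ x ∈ P, x ≠ 1 ∧ x ≠ z ∧ x * x = 1 ∧ ∀ s ∈ P, s * x * s⁻¹ = x ∨ s * x * s⁻¹ = x * z := by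
  have hsq : ∀ e ∈ E, e * e = 1 := by
    intro e he
    have := IsKleinFour.mul_self (⟨e, he⟩ : E)
    exact congrArg Subtype.val this
  by_cases hzE : (⟨z, hz⟩ : P) ∈ E
  · -- `x ∈ E`, `x ≠ 1, z`
    obtain ⟨x, hxE, hx1, hxz⟩ : ∃ x ∈ E, x ≠ 1 ∧ x ≠ ⟨z, hz⟩ := by
      by_contra hcon
      push Not at hcon
      have h1 : (E : Set P) ⊆ {1, ⟨z, hz⟩} := by
        intro x hx
        by_cases hx1 : x = 1
        · exact Or.inl hx1
        · exact Or.inr (hcon x hx hx1)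
      have h2 := Set.ncard_le_ncard h1 (Set.toFinite _)
      have h3 : Set.ncard (E : Set P) = 4 := by
        rw [← Nat.card_coe_set_eq]
        exact IsKleinFour.card_four
      have h4 : Set.ncard ({1, ⟨z, hz⟩} : Set P) ≤ 2 := by
        have := Set.ncard_insert_le (1 : P) {⟨z, hz⟩}
        rw [Set.ncard_singleton] at this
        exact this
      omega
    refine ⟨x, x.2, fun h => hx1 (Subtype.ext h), fun h => hxz (Subtype.ext h), congrArg Subtype.val (hsq x hxE), ?_⟩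
    intro s hs
    have h1 := hEn.conj_mem x hxE ⟨s, hs⟩
    set y : P := ⟨s, hs⟩ * x * ⟨s, hs⟩⁻¹ with hy
    have hyv : (y : G) = s * x * s⁻¹ := rfl
    have hy1 : y ≠ 1 := by
      intro h
      apply hx1
      have : x = (⟨s, hs⟩ : P)⁻¹ * y * ⟨s, hs⟩ := by rw [hy]; group
      rw [this, h]; group
    have hyz : y ≠ ⟨z, hz⟩ := by
      intro h
      apply hxz
      apply Subtype.ext
      have h3 : s * (x : G) * s⁻¹ = z := by rw [← hyv, h]
      have h4 : (x : G) = s⁻¹ * (z * s) := by rw [← h3]; group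
      change (x : G) = z
      rw [h4, ← hzc s hs]; group
    -- `y ∈ {x, x z}`
    by_contra hcon
    push Not at hcon
    have h5 : ({1, ⟨z, hz⟩, x, x * ⟨z, hz⟩, y} : Set P) ⊆ (E : Set P) := by
      rintro a (rfl | rfl | rfl | rfl | rfl)
      · exact one_mem E
      · exact hzE
      · exact hxE
      · exact mul_mem hxE hzE
      · exact h1
    have h6 := Set.ncard_le_ncard h5 (Set.toFinite _)
    have h3 : Set.ncard (E : Set P) = 4 := by
      rw [← Nat.card_coe_set_eq]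
      exact IsKleinFour.card_four
    have hzne : (⟨z, hz⟩ : P) ≠ 1 := fun h => hz1 (congrArg Subtype.val h)
    have e1 : x * ⟨z, hz⟩ ≠ x := fun h => hzne (mul_eq_left.1 h)
    have e2 : x * ⟨z, hz⟩ ≠ ⟨z, hz⟩ := fun h => hx1 (mul_eq_right.1 h)
    have e3 : x * ⟨z, hz⟩ ≠ 1 := by
      intro h
      apply hxz
      have h7 : (⟨z, hz⟩ : P) * ⟨z, hz⟩ = 1 := Subtype.ext hzz
      calc x = x * ⟨z, hz⟩ * ⟨z, hz⟩ := by rw [mul_assoc, h7, mul_one]
        _ = _ := by rw [h, one_mul]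
    have e4 : y ≠ x := fun h => hcon.1 (by rw [← hyv, h])
    have e5 : y ≠ x * ⟨z, hz⟩ := fun h => hcon.2 (by rw [← hyv, h]; rfl)
    rw [Set.ncard_insert_of_notMem, Set.ncard_insert_of_notMem, Set.ncard_insert_of_notMem,
      Set.ncard_insert_of_notMem, Set.ncard_singleton, h3] at h6
    · omega
    · rw [Set.mem_singleton_iff]
      exact fun h => e5 h.symm
    · rw [Set.mem_insert_iff, Set.mem_singleton_iff]
      rintro (h | h)
      · exact e1 h.symm
      · exact e4 h.symm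
    · rw [Set.mem_insert_iff, Set.mem_insert_iff, Set.mem_singleton_iff]
      rintro (h | h | h)
      · exact hxz h.symm
      · exact e2 h.symm
      · exact hyz h.symm
    · rw [Set.mem_insert_iff, Set.mem_insert_iff, Set.mem_insert_iff, Set.mem_singleton_iff]
      rintro (h | h | h | h)
      · exact hzne h.symm
      · exact hx1 h.symm
      · exact e3 h.symm
      · exact hy1 h.symm
  · -- a central involution in `E`
    have hEP : IsPGroup 2 (E.map P.subtype) := (hP.to_subgroup E).map _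
    obtain ⟨u, hu, hu1, huc⟩ := Characters.CNBasic.exists_mem_center_of_normal P hP (E.map P.subtype) hEP (by
      intro h
      rw [Subgroup.map_eq_bot_iff_of_injective _ P.subtype_injective] at h
      have h1 : Nat.card E = 4 := IsKleinFour.card_four
      rw [h, card_bot] at h1
      omega) (by
      rintro t ht _ ⟨d, hd, rfl⟩
      exact ⟨⟨t, ht⟩ * d * ⟨t, ht⟩⁻¹, hEn.conj_mem d hd ⟨t, ht⟩, rfl⟩)
    obtain ⟨u, huE, rfl⟩ := hu
    refine ⟨u, u.2, hu1, ?_, congrArg Subtype.val (hsq u huE), fun s hs => Or.inl ?_⟩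
    · intro h
      apply hzE
      have : (⟨z, hz⟩ : P) = u := Subtype.ext h.symm
      rw [this]
      exact huE
    · have h1 := huc s hs
      rw [mul_inv_eq_iff_eq_mul]
      exact h1

theorem exists_x_of_no_index_two (hG2 : ∀ H : Subgroup G, H.index ≠ 2) (S : Sylow 2 G)
    (hF : Four (S : Subgroup G)) {z : G} (hz1 : z ≠ 1) (hzz : z * z = 1) (hzc : z ∈ center G) :
    ∃ x ∈ (S : Subgroup G), x ≠ 1 ∧ x ≠ z ∧ x * x = 1 ∧ ∀ s ∈ (S : Subgroup G), s * x * s⁻¹ = x ∨ s * x * s⁻¹ = x * z := by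
  have h2 : Fact (Nat.Prime 2) := ⟨Nat.prime_two⟩
  have hzS : z ∈ (S : Subgroup G) := by
    have h1 : IsPGroup 2 (zpowers z) := by
      rintro ⟨b, j, rfl⟩
      refine ⟨1, Subtype.ext ?_⟩
      change (z ^ j) ^ 2 ^ 1 = 1
      rw [pow_one, ← zpow_natCast, ← zpow_mul, mul_comm, zpow_mul, zpow_natCast, pow_two, hzz, one_zpow]
    have hn : (zpowers z).Normal := by
      refine ⟨?_⟩
      rintro _ ⟨j, rfl⟩ g
      refine ⟨j, ?_⟩
      have h3 : Commute g z := mem_center_iff.1 hzc g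
      have h4 : g * z ^ j = z ^ j * g := (h3.zpow_right j)
      change z ^ j = g * z ^ j * g⁻¹
      rw [h4]; group
    exact le_sylow_of_normal hn h1 S (mem_zpowers z)
  obtain ⟨a, ha, b, hb, ha1, hb1, hab, haa, hbb, hc⟩ := id hF
  have hfour : ∃ E : Subgroup (S : Subgroup G), IsKleinFour E := by
    obtain ⟨W, hW, -⟩ := S0502.exists_klein (P := (S : Subgroup G)) (a := ⟨a, ha⟩) (b := ⟨b, hb⟩)
      (by rw [pow_two]; exact Subtype.ext haa) (by rw [pow_two]; exact Subtype.ext hbb)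
      (fun h => ha1 (congrArg Subtype.val h)) (fun h => hb1 (congrArg Subtype.val h))
      (fun h => hab (congrArg Subtype.val h)) (Subtype.ext hc)
    exact ⟨W, hW⟩
  by_cases hno : ∀ E : Subgroup (S : Subgroup G), E.Normal → ¬ IsKleinFour E
  · exfalso
    have key : ∀ y : G, y ≠ 1 → y * y = 1 → y = z := by
      intro y hy1 hyy
      obtain ⟨g, hg⟩ := isConj_iff.1 (AschCrit.FourGroup.isConj_of_no_normal_four hG2 S hfour hno
        (orderOf_eq_two hz1 hzz) (orderOf_eq_two hy1 hyy))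
      rw [← hg, mem_center_iff.1 hzc g]
      group
    exact hab ((key a ha1 haa).trans (key b hb1 hbb).symm)
  · push Not at hno
    obtain ⟨E, hEn, hE⟩ := hno
    exact exists_x S.2 E hE hEn hzS hz1 (fun s _ => mem_center_iff.1 hzc s) hzz

/-- **Strongly closed subgroup modulo a central 2-subgroup.** -/
theorem closed_quot (h : RkInt G) (S : Sylow 2 G) (Z : Subgroup G) [hZn : Z.Normal] (hZS : Z ≤ S) {z x : G}
    (hzZ : z ∈ Z) (hzc : z ∈ center G) (hz1 : z ≠ 1) (hzz : z * z = 1) (hx : x ∈ (S : Subgroup G)) (hxZ : x ∉ Z) (hxx : x * x = 1)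
    (hxs : ∀ s ∈ (S : Subgroup G), s * x * s⁻¹ = x ∨ s * x * s⁻¹ = x * z) :
    (∀ s ∈ ((qSyl Z S : Sylow 2 (G ⧸ Z)) : Subgroup (G ⧸ Z)), s * (QuotientGroup.mk' Z x) = (QuotientGroup.mk' Z x) * s) ∧
    (∀ g : G ⧸ Z, g * (QuotientGroup.mk' Z x) * g⁻¹ ∈ ((qSyl Z S : Sylow 2 (G ⧸ Z)) : Subgroup (G ⧸ Z)) →
      g ∈ normalizer (((qSyl Z S : Sylow 2 (G ⧸ Z)) : Subgroup (G ⧸ Z)) : Set (G ⧸ Z))) ∧
    Cfsg.IsStronglyClosed (omz ((qSyl Z S : Sylow 2 (G ⧸ Z)) : Subgroup (G ⧸ Z)))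
      ((qSyl Z S : Sylow 2 (G ⧸ Z)) : Subgroup (G ⧸ Z)) := by
  have hx1 : x ≠ 1 := by
    rintro rfl
    exact hxZ Z.one_mem
  have hxz : x ≠ z := by
    rintro rfl
    exact hxZ hzZ
  have h1 : ∀ s ∈ ((qSyl Z S : Sylow 2 (G ⧸ Z)) : Subgroup (G ⧸ Z)),
      s * (QuotientGroup.mk' Z x) = (QuotientGroup.mk' Z x) * s := by
    intro s hs
    obtain ⟨s, rfl⟩ := QuotientGroup.mk'_surjective Z s
    rw [mem_qSyl hZS] at hs
    rw [← map_mul, ← map_mul]
    have hZz : QuotientGroup.mk' Z z = 1 := (QuotientGroup.eq_one_iff z).2 hzZ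
    rcases hxs s hs with h3 | h3
    · rw [mul_inv_eq_iff_eq_mul] at h3
      rw [h3]
    · rw [mul_inv_eq_iff_eq_mul] at h3
      rw [h3, map_mul, map_mul, map_mul, hZz, mul_one]
  have h3 : ∀ g : G ⧸ Z, g * (QuotientGroup.mk' Z x) * g⁻¹ ∈ ((qSyl Z S : Sylow 2 (G ⧸ Z)) : Subgroup (G ⧸ Z)) →
      g ∈ normalizer (((qSyl Z S : Sylow 2 (G ⧸ Z)) : Subgroup (G ⧸ Z)) : Set (G ⧸ Z)) := by
    intro g hg
    obtain ⟨g, rfl⟩ := QuotientGroup.mk'_surjective Z g
    rw [← map_inv, ← map_mul, ← map_mul, mem_qSyl hZS] at hg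
    rw [mem_normalizer_qSyl hZS]
    have hgz : g * z * g⁻¹ = z := by rw [mem_center_iff.1 hzc g]; group
    exact h.norm₂ hx (hZS hzZ) hx1 hz1 hxz hxx hzz (mem_center_iff.1 hzc x) hg (by rw [hgz]; exact hZS hzZ)
  exact ⟨h1, h3, closed_of_good _ ((mem_qSyl hZS).2 hx) h1 h3⟩

end Cfsg.Agent.R2.RkInt
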