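import Mathlib
import Cfsg.Agent.H335.Over
import Cfsg.Agent.R2.RkInt.AutFix

/-!
# Automorphisms of the groups of `WType` which are trivial on `N(P) / P`

`innP_wType`: they are inner if they are of 2-power order.
-/

set_option autoImplicit false
set_option linter.dupNamespace false

namespace Cfsg.Agent.R2.RkInt

open Subgroup Cfsg Cfsg.Agent.H335
open Cfsg.Agent.Walter.Types

theorem innP_wType {X : Type*} [Group X] [Finite X] [IsSimpleGroup X] (hna : ∃ a b : X, a * b ≠ b * a)
    (hW : WType X) : InnP X := by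
  have h2 : Fact (Nat.Prime 2) := ⟨Nat.prime_two⟩
  rintro P α ⟨k, hk⟩ hN
  have hsq := Walter.PSLFacts.WType.sq hW P
  have hPc : ∀ a ∈ (P : Subgroup X), ∀ b ∈ (P : Subgroup X), a * b = b * a := by
    intro a ha b hb
    have h1 := hsq _ (mul_mem ha hb)
    have h3 : a⁻¹ = a := inv_eq_of_mul_eq_one_left (hsq a ha)
    have h4 : b⁻¹ = b := inv_eq_of_mul_eq_one_left (hsq b hb)
    have h5 : (a * b)⁻¹ = a * b := inv_eq_of_mul_eq_one_left h1
    rw [← h5, _root_.mul_inv_rev, h3, h4]
  have hαP : ∀ x ∈ (P : Subgroup X), α x ∈ (P : Subgroup X) := by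
    intro x hx
    have h1 := hN x (le_normalizer hx)
    have h3 := mul_mem h1 hx
    rwa [inv_mul_cancel_right] at h3
  -- `P ≠ 1`
  have hPne : (P : Subgroup X) ≠ ⊥ := by
    intro h
    have h1 := not_cyclic_of_simple hna P
    rw [h] at h1
    exact h1 inferInstance
  -- `α` fixes a nontrivial element of `P`
  obtain ⟨w, hw, hw1, hwα⟩ : ∃ w ∈ (P : Subgroup X), w ≠ 1 ∧ α w = w := by
    let β : MulAut (P : Subgroup X) :=
      { toFun := fun x => ⟨α x, hαP x x.2⟩
        invFun := fun x => ⟨α⁻¹ x, by
          have h3 : (P : Subgroup X).map (α : X →* X) = P := by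
            refine Subgroup.eq_of_le_of_card_ge ?_ ?_
            · rintro _ ⟨y, hy, rfl⟩
              exact hαP y hy
            · exact (Nat.card_congr ((P : Subgroup X).equivMapOfInjective _ α.injective).toEquiv).le
          have h4 : (x : X) ∈ (P : Subgroup X).map (α : X →* X) := by rw [h3]; exact x.2
          obtain ⟨y, hy, hyx⟩ := h4
          have h5 : α⁻¹ (x : X) = y := by
            rw [← hyx]
            exact MulAut.inv_apply_self X α y
          rw [h5]
          exact hy⟩
        left_inv := fun x => Subtype.ext (MulAut.inv_apply_self X α x)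
        right_inv := fun x => Subtype.ext (MulAut.apply_inv_self X α x)
        map_mul' := fun x y => Subtype.ext (map_mul α (x : X) (y : X)) }
    have hβ : ∀ (n : ℕ) (x : (P : Subgroup X)), (((β ^ n) x : (P : Subgroup X)) : X) = (α ^ n) x := by
      intro n
      induction n with
      | zero => intro x; rfl
      | succ n ih =>
        intro x
        rw [pow_succ', pow_succ', MulAut.mul_apply, MulAut.mul_apply]
        change α (((β ^ n) x : (P : Subgroup X)) : X) = _
        rw [ih]
    have hβk : β ^ 2 ^ k = 1 := by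
      ext x
      rw [hβ, hk]
      rfl
    have hZ : IsPGroup 2 (zpowers β) := by
      rintro ⟨b, j, rfl⟩
      refine ⟨k, Subtype.ext ?_⟩
      change (β ^ j) ^ 2 ^ k = 1
      rw [← zpow_natCast, ← zpow_mul, mul_comm, zpow_mul, zpow_natCast, hβk, one_zpow]
    have hdvd : 2 ∣ Nat.card (P : Subgroup X) := by
      obtain ⟨n, hn⟩ := IsPGroup.iff_card.1 P.2
      rw [hn]
      refine dvd_pow_self 2 ?_
      rintro rfl
      exact hPne (card_eq_one.1 (by rw [hn, pow_zero]))
    obtain ⟨b, hb, hb1⟩ := hZ.exists_fixed_point_of_prime_dvd_card_of_fixed_point (P : Subgroup X) hdvd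
      (a := (1 : (P : Subgroup X))) (by
        rw [MulAction.mem_fixedPoints]
        rintro ⟨m, hm⟩
        exact map_one m)
    refine ⟨b, b.2, ?_, ?_⟩
    · intro h
      exact hb1 (Subtype.ext h.symm)
    · have := MulAction.mem_fixedPoints.1 hb ⟨β, mem_zpowers β⟩
      exact congrArg Subtype.val this
  -- `α` centralises `P`
  have hcen : ∀ x ∈ (P : Subgroup X), α x = x := by
    intro x hx
    by_cases hx1 : x = 1
    · rw [hx1, map_one]
    obtain ⟨n, hn, hnx⟩ := Walter.PairsRot.exists_normalizer_conj hW hna P w hw hw1 x hx hx1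
    have h3 := hN n hn
    have h4 : α n = (α n * n⁻¹) * n := by group
    rw [← hnx, map_mul, map_mul, map_inv, hwα, h4]
    set p := α n * n⁻¹ with hp
    have h5 : p * (n * w * n⁻¹) = (n * w * n⁻¹) * p := by
      rw [hnx]
      exact hPc _ h3 _ hx
    calc p * n * w * (p * n)⁻¹ = (p * (n * w * n⁻¹)) * p⁻¹ := by group
      _ = ((n * w * n⁻¹) * p) * p⁻¹ := by rw [h5]
      _ = _ := by group
  exact inner_of_fix hna P hPc hPne α hk hcen

end Cfsg.Agent.R2.RkInt
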