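import Cfsg.Agent.R2.RkInt.Simple
import Cfsg.Agent.R2.RkInt.GoodInv

/-!
# Quasisimple groups with centre a nontrivial 2-group

`RkInt.tiz_of_four` : `L` quasisimple, `Z(L) ≠ 1` a 2-group of 2-rank one, `RkInt L`, and the Sylow 2-subgroups of `L`
contain four-groups: distinct Sylow 2-subgroups meet in `Z(L)`.
-/

set_option autoImplicit false
set_option linter.dupNamespace false

namespace Cfsg.Agent.R2.RkInt

open Subgroup Cfsg Cfsg.Agent.H335 Cfsg.Agent.TwoGenCore
open Cfsg.Agent.Walter.Types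

section good

variable {X : Type*} [Group X] [Finite X]

/-- one good involution in an abelian Sylow 2-subgroup -/
theorem ti_of_good [IsSimpleGroup X] (hna : ∃ a b : X, a * b ≠ b * a) (S : Sylow 2 X)
    (hc : ∀ a ∈ (S : Subgroup X), ∀ b ∈ (S : Subgroup X), a * b = b * a) {x : X} (hx : x ∈ (S : Subgroup X))
    (hx1 : x ≠ 1) (hgood : ∀ g : X, g * x * g⁻¹ ∈ (S : Subgroup X) → g ∈ normalizer ((S : Subgroup X) : Set X)) :
    TI X := by
  have h2 : Fact (Nat.Prime 2) := ⟨Nat.prime_two⟩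
  have hW := wType_of_comm hna S hc
  intro P T hne
  by_contra hbot
  obtain ⟨u, hu, hu1, -, -⟩ := exists_inv (P.2.to_le (inf_le_left : (P : Subgroup X) ⊓ T ≤ P)) hbot
  obtain ⟨g, rfl⟩ := MulAction.exists_smul_eq X S P
  obtain ⟨k, rfl⟩ := MulAction.exists_smul_eq X S T
  have hv : g⁻¹ * u * g ∈ (S : Subgroup X) := mem_smul_sylow.1 hu.1
  have hw : k⁻¹ * u * k ∈ (S : Subgroup X) := mem_smul_sylow.1 hu.2
  have hv1 : g⁻¹ * u * g ≠ 1 := by
    intro h
    apply hu1
    have : u = g * (g⁻¹ * u * g) * g⁻¹ := by group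
    rw [this, h]; group
  obtain ⟨n, hn, hnx⟩ := Walter.PairsRot.exists_normalizer_conj hW hna S x hx hx1 _ hv hv1
  have h3 : (k⁻¹ * g * n) * x * (k⁻¹ * g * n)⁻¹ = k⁻¹ * u * k := by
    calc (k⁻¹ * g * n) * x * (k⁻¹ * g * n)⁻¹ = k⁻¹ * (g * (n * x * n⁻¹) * g⁻¹) * k := by group
      _ = _ := by rw [hnx]; group
  have h4 := hgood (k⁻¹ * g * n) (by rw [h3]; exact hw)
  have h5 : k⁻¹ * g ∈ normalizer ((S : Subgroup X) : Set X) := by
    have : k⁻¹ * g = (k⁻¹ * g * n) * n⁻¹ := by group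
    rw [this]
    exact mul_mem h4 (inv_mem hn)
  have h6 : (k⁻¹ * g) • S = S := Sylow.smul_eq_iff_mem_normalizer.2 h5
  apply hne
  calc g • S = k • ((k⁻¹ * g) • S) := by rw [smul_smul]; congr 1; group
    _ = k • S := by rw [h6]

end good

section perfect

variable {L : Type*} [Group L]

theorem no_index_two (hperf : Group.IsPerfect L) (H : Subgroup L) : H.index ≠ 2 := by
  intro h
  have hn : H.Normal := Subgroup.normal_of_index_eq_two h
  have h1 : commutator L ≤ H := by
    have h3 : Nat.card (L ⧸ H) = 2 := h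
    have h4 : IsCyclic (L ⧸ H) := isCyclic_of_card_dvd_prime (p := 2) (by rw [h3])
    rw [← Subgroup.Normal.quotient_commutative_iff_commutator_le]
    exact ⟨⟨fun a b => (IsCyclic.commGroup (α := L ⧸ H)).mul_comm a b⟩⟩
  rw [hperf.commutator_eq_top, top_le_iff] at h1
  rw [h1, Subgroup.index_top] at h
  omega

theorem quot_nonab (hperf : Group.IsPerfect L) [IsSimpleGroup (L ⧸ center L)] :
    ∃ a b : L ⧸ center L, a * b ≠ b * a := by
  by_contra hcon
  push Not at hcon
  have h1 : commutator L ≤ center L := by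
    rw [← Subgroup.Normal.quotient_commutative_iff_commutator_le]
    exact ⟨⟨fun a b => hcon a b⟩⟩
  rw [hperf.commutator_eq_top, top_le_iff] at h1
  obtain ⟨x, hx⟩ := exists_ne (1 : L ⧸ center L)
  obtain ⟨x, rfl⟩ := QuotientGroup.mk'_surjective _ x
  apply hx
  exact (QuotientGroup.eq_one_iff x).2 (by rw [h1]; trivial)

end perfect

section KL

variable {L : Type*} [Group L] [Finite L]

theorem RkInt.tiz_of_four (hperf : Group.IsPerfect L) [IsSimpleGroup (L ⧸ center L)] (hZ : IsPGroup 2 (center L))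
    (hZF : ¬ Four (center L)) {z : L} (hz : z ∈ center L) (hz1 : z ≠ 1) (hzz : z * z = 1) (h : RkInt L) (P : Sylow 2 L)
    (hF : Four (P : Subgroup L)) : TIZ L := by
  have h2 : Fact (Nat.Prime 2) := ⟨Nat.prime_two⟩
  have hna := quot_nonab hperf
  obtain ⟨x, hxP, hx1, hxz, hxx, hxs⟩ := exists_x_of_no_index_two (no_index_two hperf) P hF hz1 hzz hz
  have hxZ : x ∉ center L := fun hx => hZF (four_of_pair hx hz hx1 hz1 hxz hxx hzz (mem_center_iff.1 hz x))
  have hZP : center L ≤ P := le_sylow_of_normal inferInstance hZ P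
  obtain ⟨h3, h4, h5⟩ := closed_quot h P (center L) hZP hz hz hz1 hzz hxP hxZ hxx hxs
  apply tiz_of_quot hZ
  rcases dich_simple hna (qSyl (center L) P) _ (omz_ne_bot (qSyl (center L) P).2
    (ne_bot_of_not_cyclic (not_cyclic_of_simple hna _))) (omz_comm _) h5 with h6 | h6
  · refine ti_of_good hna (qSyl (center L) P) h6 ((mem_qSyl hZP).2 hxP) ?_ h4
    intro h7
    exact hxZ ((QuotientGroup.eq_one_iff x).1 h7)
  · exact h6

/-- Bender's list for the quotient by the centre -/
theorem bList_of_tiz (hperf : Group.IsPerfect L) [IsSimpleGroup (L ⧸ center L)] (hZ : IsPGroup 2 (center L))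
    (h : TIZ L) : BList (L ⧸ center L) :=
  bList_of_ti (quot_nonab hperf) (ti_quot hZ h)

theorem innP_of_tiz (hperf : Group.IsPerfect L) [IsSimpleGroup (L ⧸ center L)] (hZ : IsPGroup 2 (center L))
    (h : TIZ L) : InnP L :=
  inner_lift hperf hZ (innP_of_ti (quot_nonab hperf) (ti_quot hZ h))

end KL

end Cfsg.Agent.R2.RkInt
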