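import Cfsg.Agent.S0201
import Cfsg.Agent.H335.Solv
import Cfsg.Agent.SignalizersComponents.Components
import Cfsg.Agent.R2.RkInt.RankOne
import Cfsg.Agent.R2.RkInt.Quasi

/-!
# Quaternion groups

* `quat_data` : elements of order 4 in a quaternion group;
* `exists_center` : the centre of a quasisimple group with quaternion Sylow 2-subgroups.
-/

set_option autoImplicit false
set_option linter.dupNamespace false

namespace Cfsg.Agent.R2.RkInt

open Subgroup Cfsg Cfsg.Agent.TwoGenCore Cfsg.Agent.H335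
open Cfsg.Agent.SignalizersComponents.Components

section quat

variable {G : Type*} [Group G] [Finite G]

theorem quat_data {P : Subgroup G} (hP : IsPGroup 2 P) (hF : ¬ Four P) {n : ℕ} (e : P ≃* QuaternionGroup (2 ^ (n + 1)))
    {z : G} (hz : z ∈ P) (hz1 : z ≠ 1) (hzz : z * z = 1) :
    (∃ a ∈ P, ∃ b ∈ P, a * a = z ∧ b * b = z ∧ a * b ≠ b * a) ∧
      ∀ x ∈ P, x * x = z ∨ ∃ a ∈ P, ∃ b ∈ P, a * a = z ∧ b * b = z ∧ x = a * b := by
  set N := 2 ^ (n + 1) with hN
  have hN2 : 2 ≤ N := by
    calc 2 = 2 ^ 1 := by norm_num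
      _ ≤ 2 ^ (n + 1) := Nat.pow_le_pow_right (by norm_num) (by omega)
  -- the involution
  have h2N : ((N : ℕ) : ZMod (2 * N)) + ((N : ℕ) : ZMod (2 * N)) = 0 := by
    rw [← Nat.cast_add, ← two_mul, ZMod.natCast_self]
  have hNne : ((N : ℕ) : ZMod (2 * N)) ≠ 0 := by
    intro h
    rw [ZMod.natCast_eq_zero_iff] at h
    have := Nat.le_of_dvd (by omega) h
    omega
  have hw : ((e.symm (QuaternionGroup.a N) : P) : G) = z := by
    refine eq_of_not_four' hP hF (e.symm (QuaternionGroup.a N)).2 hz ?_ hz1 ?_ hzz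
    · intro h
      have h1 : e.symm (QuaternionGroup.a N) = 1 := Subtype.ext h
      rw [EmbeddingLike.map_eq_one_iff, QuaternionGroup.one_def] at h1
      injection h1 with h3
      exact hNne h3
    · have h1 : e.symm (QuaternionGroup.a N) * e.symm (QuaternionGroup.a N) = 1 := by
        rw [← map_mul, QuaternionGroup.a_mul_a, h2N, ← QuaternionGroup.one_def, map_one]
      exact congrArg Subtype.val h1
  have hsq : ∀ i : ZMod (2 * N), ((e.symm (QuaternionGroup.xa i) : P) : G) * (e.symm (QuaternionGroup.xa i) : P) = z := by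
    intro i
    have h1 : e.symm (QuaternionGroup.xa i) * e.symm (QuaternionGroup.xa i) = e.symm (QuaternionGroup.a N) := by
      rw [← map_mul, QuaternionGroup.xa_mul_xa, add_sub_cancel_right]
    rw [← hw, ← h1]
    rfl
  refine ⟨⟨_, (e.symm (QuaternionGroup.xa 0)).2, _, (e.symm (QuaternionGroup.xa 1)).2, hsq 0, hsq 1, ?_⟩, ?_⟩
  · intro h
    have h1 : e.symm (QuaternionGroup.xa 0) * e.symm (QuaternionGroup.xa 1) =
        e.symm (QuaternionGroup.xa 1) * e.symm (QuaternionGroup.xa 0) := Subtype.ext h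
    rw [← map_mul, ← map_mul, QuaternionGroup.xa_mul_xa, QuaternionGroup.xa_mul_xa] at h1
    have h3 := e.symm.injective h1
    injection h3 with h4
    have h5 : ((2 : ℕ) : ZMod (2 * N)) = 0 := by
      have h6 : (2 : ZMod (2 * N)) = ((N : ℕ) + 1 - 0) - ((N : ℕ) + 0 - 1) := by ring
      rw [Nat.cast_ofNat, h6, h4, sub_self]
    rw [ZMod.natCast_eq_zero_iff] at h5
    have := Nat.le_of_dvd (by norm_num) h5
    omega
  · intro x hx
    rcases hex : e ⟨x, hx⟩ with i | i
    · right
      refine ⟨_, (e.symm (QuaternionGroup.xa 0)).2, _, (e.symm (QuaternionGroup.xa (i - N))).2, hsq _, hsq _, ?_⟩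
      have h1 : e.symm (QuaternionGroup.xa 0) * e.symm (QuaternionGroup.xa (i - N)) = ⟨x, hx⟩ := by
        rw [← map_mul, QuaternionGroup.xa_mul_xa, ← e.symm_apply_apply ⟨x, hx⟩, hex]
        congr 2
        ring
      exact (congrArg Subtype.val h1).symm
    · left
      have h1 : e.symm (QuaternionGroup.xa i) = ⟨x, hx⟩ := by rw [← hex, e.symm_apply_apply]
      have h3 := hsq i
      rw [h1] at h3
      exact h3

/-- a quaternion subgroup of order 8 -/
theorem quat_pair {P : Subgroup G} (hP : IsPGroup 2 P) (hF : ¬ Four P) {n : ℕ} (e : P ≃* QuaternionGroup (2 ^ (n + 1)))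
    {z : G} (hz : z ∈ P) (hz1 : z ≠ 1) (hzz : z * z = 1) :
    ∃ a ∈ P, ∃ b ∈ P, a * a = z ∧ b * b = z ∧ a * b = z * (b * a) := by
  have hNh : (((2 ^ n : ℕ) : ZMod (2 * 2 ^ (n + 1))) + ((2 ^ n : ℕ) : ZMod (2 * 2 ^ (n + 1)))) =
      ((2 ^ (n + 1) : ℕ) : ZMod (2 * 2 ^ (n + 1))) := by
    rw [← Nat.cast_add, ← two_mul, pow_succ']
  set N := 2 ^ (n + 1) with hN
  have hN2 : 2 ≤ N := by
    calc 2 = 2 ^ 1 := by norm_num
      _ ≤ 2 ^ (n + 1) := Nat.pow_le_pow_right (by norm_num) (by omega)
  have h2N : ((N : ℕ) : ZMod (2 * N)) + ((N : ℕ) : ZMod (2 * N)) = 0 := by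
    rw [← Nat.cast_add, ← two_mul, ZMod.natCast_self]
  have hNne : ((N : ℕ) : ZMod (2 * N)) ≠ 0 := by
    intro h
    rw [ZMod.natCast_eq_zero_iff] at h
    have := Nat.le_of_dvd (by omega) h
    omega
  have hw : ((e.symm (QuaternionGroup.a N) : P) : G) = z := by
    refine eq_of_not_four' hP hF (e.symm (QuaternionGroup.a N)).2 hz ?_ hz1 ?_ hzz
    · intro h
      have h1 : e.symm (QuaternionGroup.a N) = 1 := Subtype.ext h
      rw [EmbeddingLike.map_eq_one_iff, QuaternionGroup.one_def] at h1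
      injection h1 with h3
      exact hNne h3
    · have h1 : e.symm (QuaternionGroup.a N) * e.symm (QuaternionGroup.a N) = 1 := by
        rw [← map_mul, QuaternionGroup.a_mul_a, h2N, ← QuaternionGroup.one_def, map_one]
      exact congrArg Subtype.val h1
  refine ⟨_, (e.symm (QuaternionGroup.a ((2 ^ n : ℕ) : ZMod (2 * N)))).2, _, (e.symm (QuaternionGroup.xa 0)).2, ?_, ?_, ?_⟩
  · rw [← hw, ← coe_mul, ← map_mul, QuaternionGroup.a_mul_a, hNh]
  · rw [← hw, ← coe_mul, ← map_mul, QuaternionGroup.xa_mul_xa, add_sub_cancel_right]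
  · rw [← hw, ← coe_mul, ← coe_mul, ← coe_mul, ← map_mul, ← map_mul, ← map_mul, QuaternionGroup.a_mul_xa,
      QuaternionGroup.xa_mul_a, QuaternionGroup.a_mul_xa, ← hNh]
    congr 3
    ring

end quat

section center

variable {L : Type*} [Group L] [Finite L]

theorem exists_center (hq : IsQuasisimple L) (hZ : IsPGroup 2 (center L)) (P : Sylow 2 L)
    (hF : ¬ Four (P : Subgroup L)) :
    (∃ n : ℕ, Nonempty ((P : Subgroup L) ≃* QuaternionGroup (2 ^ (n + 1)))) ∧
      ∃ z : L, z ≠ 1 ∧ z * z = 1 ∧ ∀ x : L, x ∈ center L ↔ x = 1 ∨ x = z := by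
  have h2 : Fact (Nat.Prime 2) := ⟨Nat.prime_two⟩
  have hns : ¬ Group.IsSolvable L := quasisimple_not_isSolvable hq
  have hnc : ¬ IsCyclic (P : Subgroup L) := fun h => hns (solvable_of_cyclic P h)
  obtain ⟨n, ⟨e⟩⟩ := (cyclic_or_quat P.2 hF).resolve_left hnc
  have hPodd : ¬ Odd (Nat.card L) := by
    intro hodd
    obtain ⟨k, hk⟩ := IsPGroup.iff_card.1 P.2
    have h3 : k ≠ 0 := by
      rintro rfl
      rw [pow_zero, card_eq_one] at hk
      rw [hk] at hnc
      exact hnc inferInstance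
    have h4 : 2 ∣ Nat.card L := ((dvd_pow_self 2 h3).trans hk.symm.dvd).trans (card_subgroup_dvd_card _)
    rw [← Nat.not_even_iff_odd, even_iff_two_dvd] at hodd
    exact hodd h4
  have hc : Nat.card (center L) = 2 := by
    refine Cfsg.Agent.S0201.result P n e fun N hN hodd => ?_
    rcases quasisimple_normal hq N hN with h | h
    · rw [h, card_top] at hodd
      exact absurd hodd hPodd
    · obtain ⟨k, hk⟩ := IsPGroup.iff_card.1 (hZ.to_le h)
      rcases k with _ | k
      · rwa [pow_zero, card_eq_one] at hk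
      · rw [hk, ← Nat.not_even_iff_odd, even_iff_two_dvd] at hodd
        exact absurd (dvd_pow_self 2 (by omega)) hodd
  refine ⟨⟨n, ⟨e⟩⟩, ?_⟩
  obtain ⟨z, hz⟩ := exists_prime_orderOf_dvd_card' (G := center L) 2 hc.symm.dvd
  have hz1 : (z : L) ≠ 1 := by
    intro h
    have h1 : z = 1 := Subtype.ext h
    rw [h1, orderOf_one] at hz
    omega
  refine ⟨z, hz1, ?_, ?_⟩
  · have := pow_orderOf_eq_one z
    rw [hz, pow_two] at this
    exact congrArg Subtype.val this
  · intro x
    constructor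
    · intro hx
      by_contra hcon
      push Not at hcon
      have h3 : ({1, (z : L), x} : Set L) ⊆ (center L : Set L) := by
        rintro a (rfl | rfl | rfl)
        · exact one_mem _
        · exact z.2
        · exact hx
      have h4 := Set.ncard_le_ncard h3 (Set.toFinite _)
      have h5 : Set.ncard (center L : Set L) = 2 := by
        rw [← Nat.card_coe_set_eq]
        exact hc
      rw [Set.ncard_insert_of_notMem, Set.ncard_insert_of_notMem, Set.ncard_singleton, h5] at h4
      · omega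
      · rw [Set.mem_singleton_iff]
        exact fun h => hcon.2 h.symm
      · rw [Set.mem_insert_iff, Set.mem_singleton_iff]
        rintro (h | h)
        · exact hz1 h.symm
        · exact hcon.1 h.symm
    · rintro (rfl | rfl)
      · exact one_mem _
      · exact z.2

end center

end Cfsg.Agent.R2.RkInt
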