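import Cfsg.Agent.R2.RkInt.KL
import Cfsg.Agent.R2.RkInt.OneComp
import Cfsg.Agent.R2.RkInt.QuatFacts

/-!
# One component with quaternion Sylow 2-subgroups, `O₂(G)` of order 2: normal four-groups
-/

set_option autoImplicit false
set_option linter.dupNamespace false

namespace Cfsg.Agent.R2.RkInt

open Subgroup Cfsg Cfsg.Agent.H335 Cfsg.Agent.TwoGenCore
open Cfsg.Agent.Walter.Types

theorem closed_comap {X K : Type*} [Group X] [Group K] (φ : X →* K) {A S : Subgroup K}
    (h : Cfsg.IsStronglyClosed A S) : Cfsg.IsStronglyClosed (A.comap φ) (S.comap φ) := by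
  refine ⟨comap_mono h.1, fun v hv g hg => ?_⟩
  have h1 : φ g * φ v * (φ g)⁻¹ ∈ S := by
    rw [← map_inv, ← map_mul, ← map_mul]
    exact hg
  have h2 := h.2 (φ v) hv (φ g) h1
  change φ (g * v * g⁻¹) ∈ A
  rw [map_mul, map_mul, map_inv]
  exact h2

namespace OC

variable {G : Type*} [Group G] [Finite G] {L R : Subgroup G}

omit [Finite G] in
/-- the embedding of `L / Z(L)` -/
theorem exists_embed (h : OC L R) : ∃ _ : R.Normal, ∃ φ : (L ⧸ center L) →* G ⧸ R, Function.Injective φ ∧
    ∀ x : L, φ (QuotientGroup.mk' (center L) x) = QuotientGroup.mk' R x := by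
  have hRn := h.Rnormal
  refine ⟨hRn, QuotientGroup.lift (center L) ((QuotientGroup.mk' R).comp L.subtype) ?_, ?_, ?_⟩
  · intro x hx
    exact (QuotientGroup.eq_one_iff (x : G)).2 (h.center_le hx)
  · rw [injective_iff_map_eq_one]
    intro x hx
    obtain ⟨x, rfl⟩ := QuotientGroup.mk'_surjective (center L) x
    have h1 : QuotientGroup.mk' R (x : G) = 1 := hx
    exact (QuotientGroup.eq_one_iff x).2 (h.center_iff.2 ((QuotientGroup.eq_one_iff (x : G)).1 h1))
  · intro x
    rfl

/-- `Z(L) = R = ⟨z⟩`, `L` of 2-rank one: no involution `x ≠ z` of `S` with `[x, S] ≤ ⟨z⟩` -/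
theorem false_of_x (h : OC L R) {z : L} (hz1 : z ≠ 1) (hzz : z * z = 1) (hzc : ∀ x : L, x ∈ center L ↔ x = 1 ∨ x = z)
    (hR : ∀ r ∈ R, r = 1 ∨ r = z) (hnF : ∀ P : Sylow 2 L, ¬ Four (P : Subgroup L)) (S : Sylow 2 G) {x : G}
    (hx : x ∈ (S : Subgroup G)) (hx1 : x ≠ 1) (hxz : x ≠ z) (hxx : x * x = 1)
    (hxs : ∀ s ∈ (S : Subgroup G), s * x * s⁻¹ = x ∨ s * x * s⁻¹ = x * z) : False := by
  have h2 : Fact (Nat.Prime 2) := ⟨Nat.prime_two⟩
  have hLn := h.normal
  have hsim := h.simple
  have hna := quot_nonab h.perf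
  obtain ⟨hRn, φ, hφ, hφx⟩ := h.exists_embed
  have hzL : z ∈ center L := (hzc z).2 (Or.inr rfl)
  have hzR : (z : G) ∈ R := h.center_le hzL
  have hz1' : (z : G) ≠ 1 := fun h => hz1 (Subtype.ext h)
  have hzz' : (z : G) * z = 1 := congrArg Subtype.val hzz
  have hzC : (z : G) ∈ center G := by
    rw [mem_center_iff]
    intro g
    have h3 := hRn.conj_mem _ hzR g
    rcases hR _ h3 with h4 | h4
    · exfalso
      apply hz1'
      have : (z : G) = g⁻¹ * (g * z * g⁻¹) * g := by group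
      rw [this, h4]; group
    · exact mul_inv_eq_iff_eq_mul.1 h4
  have hxR : x ∉ R := by
    intro hxR
    rcases hR x hxR with h3 | h3
    · exact hx1 h3
    · exact hxz h3
  obtain ⟨P, hP⟩ := h.exists_sylow S
  have hZP : center L ≤ P := le_sylow_of_normal inferInstance h.center_two P
  have hRS := h.R_le S
  obtain ⟨h3, h4, h5⟩ := closed_quot h.rk S R hRS hzR hzC hz1' hzz' hx hxR hxx hxs
  -- the Sylow subgroup of `L / Z(L)`
  have hPc : ((qSyl R S : Sylow 2 (G ⧸ R)) : Subgroup (G ⧸ R)).comap φ =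
      ((qSyl (center L) P : Sylow 2 (L ⧸ center L)) : Subgroup (L ⧸ center L)) := by
    ext y
    obtain ⟨y, rfl⟩ := QuotientGroup.mk'_surjective (center L) y
    rw [mem_comap, hφx, mem_qSyl hRS, mem_qSyl hZP, hP, mem_subgroupOf]
  have hcl := closed_comap φ h5
  rw [hPc] at hcl
  -- nontrivial
  have hA : (omz ((qSyl R S : Sylow 2 (G ⧸ R)) : Subgroup (G ⧸ R))).comap φ ≠ ⊥ := by
    set T : Subgroup (G ⧸ R) := ((qSyl R S : Sylow 2 (G ⧸ R)) : Subgroup (G ⧸ R)) with hT
    have hT2 : IsPGroup 2 T := (qSyl R S).2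
    set D : Subgroup (G ⧸ R) := T ⊓ φ.range with hD
    have hD1 : D ≠ ⊥ := by
      intro hb
      have h6 : ((qSyl (center L) P : Sylow 2 (L ⧸ center L)) : Subgroup (L ⧸ center L)) = ⊥ := by
        rw [eq_bot_iff]
        intro y hy
        have h7 : φ y ∈ D := ⟨by rw [← hPc] at hy; exact hy, ⟨y, rfl⟩⟩
        rw [hb, mem_bot] at h7
        rw [mem_bot]
        exact hφ (by rw [h7, map_one])
      exact ne_bot_of_not_cyclic (not_cyclic_of_simple hna (qSyl (center L) P)) h6
    have hrn : ∀ g y, φ y ∈ φ.range → g * φ y * g⁻¹ ∈ φ.range := by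
      intro g y _
      obtain ⟨g, rfl⟩ := QuotientGroup.mk'_surjective R g
      obtain ⟨y, rfl⟩ := QuotientGroup.mk'_surjective (center L) y
      refine ⟨QuotientGroup.mk' (center L) ⟨g * y * g⁻¹, hLn.conj_mem y y.2 g⟩, ?_⟩
      rw [hφx, hφx]
      rfl
    obtain ⟨w, hw, hw1, hwc⟩ := Characters.CNBasic.exists_mem_center_of_normal T hT2 D (hT2.to_le inf_le_left) hD1 (by
      rintro t ht d ⟨hd1, y, rfl⟩
      exact ⟨T.mul_mem (T.mul_mem ht hd1) (T.inv_mem ht), hrn t y ⟨y, rfl⟩⟩)
    have hw2 : IsPGroup 2 (zpowers w) := hT2.to_le ((zpowers_le).2 hw.1)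
    obtain ⟨u, hu, hu1, huu, -⟩ := exists_inv hw2 (by rwa [Ne, zpowers_eq_bot])
    have huD : u ∈ D := (zpowers_le.2 hw) hu
    obtain ⟨y, hy⟩ := huD.2
    intro hb
    have h6 : y ∈ (omz T).comap φ := by
      rw [mem_comap, hy, mem_omz]
      refine ⟨huD.1, ?_, huu⟩
      intro s hs
      obtain ⟨j, rfl⟩ := hu
      exact ((show Commute s w from hwc s hs).zpow_right j).eq
    rw [hb, mem_bot] at h6
    rw [h6, map_one] at hy
    exact hu1 hy.symm
  have hAc : IsMulCommutative ((omz ((qSyl R S : Sylow 2 (G ⧸ R)) : Subgroup (G ⧸ R))).comap φ) := by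
    have h6 := omz_comm ((qSyl R S : Sylow 2 (G ⧸ R)) : Subgroup (G ⧸ R))
    refine ⟨⟨fun a b => Subtype.ext (hφ ?_)⟩⟩
    change φ ((a : L ⧸ center L) * b) = φ ((b : L ⧸ center L) * a)
    rw [map_mul, map_mul]
    exact congrArg Subtype.val (h6.is_comm.comm ⟨φ (a : L ⧸ center L), a.2⟩ ⟨φ (b : L ⧸ center L), b.2⟩)
  -- the Sylow 2-subgroups of `L / Z(L)` are abelian
  have hzP : z ∈ (P : Subgroup L) := hZP hzL
  have hcomm : ∀ a ∈ ((qSyl (center L) P : Sylow 2 (L ⧸ center L)) : Subgroup (L ⧸ center L)),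
      ∀ b ∈ ((qSyl (center L) P : Sylow 2 (L ⧸ center L)) : Subgroup (L ⧸ center L)), a * b = b * a := by
    rcases dich_simple hna (qSyl (center L) P) _ hA hAc hcl with h6 | h6
    · exact h6
    · have hq : IsQuasisimple L := ⟨h.perf, h.simple⟩
      obtain ⟨⟨n, ⟨e⟩⟩, -⟩ := exists_center hq h.center_two P (hnF P)
      have hd := (quat_data P.2 (hnF P) e hzP hz1 hzz).2
      have hcz : ∀ a ∈ (P : Subgroup L), a * a = z → ∀ b ∈ ((qSyl (center L) P : Sylow 2 (L ⧸ center L)) :
          Subgroup (L ⧸ center L)), b * QuotientGroup.mk' (center L) a = QuotientGroup.mk' (center L) a * b := by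
        intro a ha haz
        refine central_of_ti hna h6 (qSyl (center L) P) ((mem_qSyl hZP).2 ha) ?_
        rw [← map_mul, haz]
        exact (QuotientGroup.eq_one_iff z).2 hzL
      intro b hb c hc
      obtain ⟨c, rfl⟩ := QuotientGroup.mk'_surjective (center L) c
      rcases hd c ((mem_qSyl hZP).1 hc) with h7 | ⟨a, ha, d, hd, haz, hdz, rfl⟩
      · exact hcz c ((mem_qSyl hZP).1 hc) h7 b hb
      · rw [map_mul, ← mul_assoc, hcz a ha haz b hb, mul_assoc, hcz d hd hdz b hb, mul_assoc]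
  -- `x` induces an inner automorphism
  have hc : ∀ y : L, ((MulAut.conjNormal x y : L) : G) = x * y * x⁻¹ := fun y => MulAut.conjNormal_apply x y
  let α : MulAut L := MulAut.conjNormal x
  let γ : MulAut (L ⧸ center L) := QuotientGroup.congr (center L) (center L) α
    (characteristic_iff_map_eq.1 inferInstance α)
  have hγ : ∀ y, γ (QuotientGroup.mk' (center L) y) = QuotientGroup.mk' (center L) (α y) := fun y => rfl
  have hγ2 : γ ^ 2 ^ 1 = 1 := by
    rw [pow_one, pow_two]
    ext y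
    obtain ⟨y, rfl⟩ := QuotientGroup.mk'_surjective (center L) y
    rw [MulAut.mul_apply, hγ, hγ]
    have h6 : α (α y) = y := by
      apply Subtype.ext
      change ((MulAut.conjNormal x (MulAut.conjNormal x y) : L) : G) = y
      rw [hc, hc]
      calc x * (x * (y : G) * x⁻¹) * x⁻¹ = (x * x) * y * (x * x)⁻¹ := by group
        _ = y := by rw [hxx]; group
    rw [h6]
    rfl
  have hfix : ∀ y ∈ ((qSyl (center L) P : Sylow 2 (L ⧸ center L)) : Subgroup (L ⧸ center L)), γ y = y := by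
    intro y hy
    obtain ⟨y, rfl⟩ := QuotientGroup.mk'_surjective (center L) y
    rw [hγ]
    apply QuotientGroup.eq.2
    rw [hzc]
    have hyS : (y : G) ∈ (S : Subgroup G) := by
      have := (mem_qSyl hZP).1 hy
      rw [hP] at this
      exact this
    have h6 : ((α y : L) : G) = x * y * x⁻¹ := hc y
    rcases hxs y hyS with h7 | h7
    · left
      apply Subtype.ext
      change ((α y : L) : G)⁻¹ * (y : G) = 1
      rw [h6]
      have h8 : (y : G) * x = x * y := mul_inv_eq_iff_eq_mul.1 h7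
      calc (x * (y : G) * x⁻¹)⁻¹ * y = x * (y : G)⁻¹ * x⁻¹ * y := by group
        _ = x * (x * (y : G))⁻¹ * y := by group
        _ = x * ((y : G) * x)⁻¹ * y := by rw [h8]
        _ = 1 := by group
    · right
      apply Subtype.ext
      change ((α y : L) : G)⁻¹ * (y : G) = z
      rw [h6]
      have h8 : (y : G) * x = x * z * y := mul_inv_eq_iff_eq_mul.1 h7
      have h9 : (z : G)⁻¹ = z := inv_eq_of_mul_eq_one_left hzz'
      have h10 : (y : G)⁻¹ * x⁻¹ * y = z * x⁻¹ := by
        have h11 : (y : G)⁻¹ * x⁻¹ = (x * y)⁻¹ := by group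
        have h12 : x * (y : G) = (z : G)⁻¹ * (y * x) := by
          rw [h8]
          have h13 : x * (z : G) = z * x := mem_center_iff.1 hzC x
          rw [h13]; group
        rw [h11, h12]
        have h13 := mem_center_iff.1 hzC ((y : G) * x)⁻¹
        calc ((z : G)⁻¹ * ((y : G) * x))⁻¹ * y = ((y : G) * x)⁻¹ * z * y := by group
          _ = z * ((y : G) * x)⁻¹ * y := by rw [h13]
          _ = _ := by group
      calc (x * (y : G) * x⁻¹)⁻¹ * y = x * ((y : G)⁻¹ * x⁻¹ * y) := by group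
        _ = x * (z * x⁻¹) := by rw [h10]
        _ = (x * z) * x⁻¹ := by group
        _ = (z * x) * x⁻¹ := by rw [mem_center_iff.1 hzC x]
        _ = z := by group
  obtain ⟨y, hy⟩ := inner_of_fix hna (qSyl (center L) P) hcomm
    (ne_bot_of_not_cyclic (not_cyclic_of_simple hna (qSyl (center L) P))) γ hγ2 hfix
  obtain ⟨y, rfl⟩ := QuotientGroup.mk'_surjective (center L) y
  have hαy : α = MulAut.conj y := by
    refine eq_of_perfect h.perf _ _ fun v => ?_
    have h6 := congrArg (fun δ : MulAut (L ⧸ center L) => δ (QuotientGroup.mk' (center L) v)) hy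
    change γ (QuotientGroup.mk' (center L) v) = _ at h6
    rw [hγ] at h6
    change QuotientGroup.mk' (center L) (α v) = QuotientGroup.mk' (center L) y * QuotientGroup.mk' (center L) v *
      (QuotientGroup.mk' (center L) y)⁻¹ at h6
    rw [← map_inv, ← map_mul, ← map_mul] at h6
    exact QuotientGroup.eq.1 h6.symm
  have h6 : (y : G)⁻¹ * x ∈ R := by
    refine h.cent _ ?_ ?_
    · intro l hl
      have h7 := hc ⟨l, hl⟩
      have h8 : (y : G) * l * (y : G)⁻¹ = x * l * x⁻¹ := by
        rw [← h7]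
        change ((MulAut.conj y ⟨l, hl⟩ : L) : G) = ((α ⟨l, hl⟩ : L) : G)
        rw [hαy]
      symm
      calc l * ((y : G)⁻¹ * x) = (y : G)⁻¹ * ((y : G) * l * (y : G)⁻¹) * x := by group
        _ = (y : G)⁻¹ * (x * l * x⁻¹) * x := by rw [h8]
        _ = (y : G)⁻¹ * x * l := by group
    · intro r hr
      rcases hR r hr with rfl | rfl
      · rw [mul_one, one_mul]
      · exact mem_center_iff.1 hzC _
  have hxL : x ∈ L := by
    have h7 : (y : G)⁻¹ * x ∈ L := by
      rcases hR _ h6 with h8 | h8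
      · rw [h8]; exact one_mem L
      · rw [h8]; exact z.2
    have h8 : x = y * ((y : G)⁻¹ * x) := by group
    rw [h8]
    exact mul_mem y.2 h7
  have hxP : (⟨x, hxL⟩ : L) ∈ (P : Subgroup L) := by rw [hP]; exact hx
  exact hnF P (four_of_pair hxP hzP (fun h => hx1 (congrArg Subtype.val h)) hz1 (fun h => hxz (congrArg Subtype.val h))
    (Subtype.ext hxx) hzz (mem_center_iff.1 hzL _))

end OC

/-- a dihedral group contains no quaternion group -/
theorem not_dihedral {P : Type*} [Group P] {m : ℕ} (e : P ≃* DihedralGroup m) {z a b : P} (hz1 : z ≠ 1)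
    (ha : a * a = z) (hb : b * b = z) (hab : a * b ≠ b * a) : False := by
  have key : ∀ c : P, c * c = z → ∃ i, e c = DihedralGroup.r i := by
    intro c hc
    rcases h : e c with i | i
    · exact ⟨i, rfl⟩
    · exfalso
      apply hz1
      have h1 : e (c * c) = 1 := by rw [map_mul, h, DihedralGroup.sr_mul_self]
      rw [← hc]
      exact e.injective (by rw [h1, map_one])
  obtain ⟨i, hi⟩ := key a ha
  obtain ⟨j, hj⟩ := key b hb
  apply hab
  apply e.injective
  rw [map_mul, map_mul, hi, hj, DihedralGroup.r_mul_r, DihedralGroup.r_mul_r, add_comm]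

end Cfsg.Agent.R2.RkInt
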