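import Cfsg.Agent.S0483
import Cfsg.Agent.S1190
import Cfsg.Agent.Lib.PSL2Outer
import Cfsg.Agent.TwoFusion.QGroupMain
import Cfsg.Agent.TwoFusion.NoNormalFour
import Cfsg.Agent.R2.RkInt.NoB

/-!
# One component with quaternion Sylow 2-subgroups, `O₂(G)` of order 2

`OC.not_four` : the Sylow 2-subgroups of `G` have 2-rank one.
-/

set_option autoImplicit false
set_option linter.dupNamespace false

namespace Cfsg.Agent.R2.RkInt

open Subgroup Cfsg Cfsg.Agent.H335 Cfsg.Agent.TwoGenCore

namespace OC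

variable {G : Type*} [Group G] [Finite G] {L R : Subgroup G}

/-- a central involution of `S / R` in `L R / R` -/
theorem exists_u (h : OC L R) (S : Sylow 2 G) : ∃ u : L, (u : G) ∈ (S : Subgroup G) ∧ u ∉ center L ∧
    u * u ∈ center L ∧ ∀ s ∈ (S : Subgroup G), (s * u)⁻¹ * (u * s) ∈ R := by
  have h2 : Fact (Nat.Prime 2) := ⟨Nat.prime_two⟩
  have hLn := h.normal
  have hsim := h.simple
  have hna := quot_nonab h.perf
  obtain ⟨hRn, φ, hφ, hφx⟩ := h.exists_embed
  obtain ⟨P, hP⟩ := h.exists_sylow S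
  have hZP : center L ≤ P := le_sylow_of_normal inferInstance h.center_two P
  have hRS := h.R_le S
  set T : Subgroup (G ⧸ R) := ((qSyl R S : Sylow 2 (G ⧸ R)) : Subgroup (G ⧸ R)) with hT
  have hPc : T.comap φ = ((qSyl (center L) P : Sylow 2 (L ⧸ center L)) : Subgroup (L ⧸ center L)) := by
    ext y
    obtain ⟨y, rfl⟩ := QuotientGroup.mk'_surjective (center L) y
    rw [mem_comap, hφx, mem_qSyl hRS, mem_qSyl hZP, hP, mem_subgroupOf]
  have hT2 : IsPGroup 2 T := (qSyl R S).2
  set D : Subgroup (G ⧸ R) := T ⊓ φ.range with hD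
  have hD1 : D ≠ ⊥ := by
    intro hb
    have h6 : ((qSyl (center L) P : Sylow 2 (L ⧸ center L)) : Subgroup (L ⧸ center L)) = ⊥ := by
      rw [eq_bot_iff]
      intro y hy
      have h7 : φ y ∈ D := ⟨by rw [← hPc] at hy; exact hy, ⟨y, rfl⟩⟩
      rw [hb, mem_bot] at h7
      rw [mem_bot]
      exact hφ (by rw [h7, map_one])
    exact ne_bot_of_not_cyclic (not_cyclic_of_simple hna (qSyl (center L) P)) h6
  have hrn : ∀ g y, φ y ∈ φ.range → g * φ y * g⁻¹ ∈ φ.range := by
    intro g y _
    obtain ⟨g, rfl⟩ := QuotientGroup.mk'_surjective R g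
    obtain ⟨y, rfl⟩ := QuotientGroup.mk'_surjective (center L) y
    refine ⟨QuotientGroup.mk' (center L) ⟨g * y * g⁻¹, hLn.conj_mem y y.2 g⟩, ?_⟩
    rw [hφx, hφx]
    rfl
  obtain ⟨w, hw, hw1, hwc⟩ := Characters.CNBasic.exists_mem_center_of_normal T hT2 D (hT2.to_le inf_le_left) hD1 (by
    rintro t ht d ⟨hd1, y, rfl⟩
    exact ⟨T.mul_mem (T.mul_mem ht hd1) (T.inv_mem ht), hrn t y ⟨y, rfl⟩⟩)
  have hw2 : IsPGroup 2 (zpowers w) := hT2.to_le ((zpowers_le).2 hw.1)
  obtain ⟨u, hu, hu1, huu, -⟩ := exists_inv hw2 (by rwa [Ne, zpowers_eq_bot])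
  have huD : u ∈ D := (zpowers_le.2 hw) hu
  have huc : ∀ s ∈ T, s * u = u * s := by
    intro s hs
    obtain ⟨j, rfl⟩ := hu
    exact ((show Commute s w from hwc s hs).zpow_right j).eq
  obtain ⟨y, hy⟩ := huD.2
  obtain ⟨y, rfl⟩ := QuotientGroup.mk'_surjective (center L) y
  rw [hφx] at hy
  subst hy
  refine ⟨y, (mem_qSyl hRS).1 huD.1, ?_, ?_, ?_⟩
  · intro hyc
    exact hu1 ((QuotientGroup.eq_one_iff (y : G)).2 (h.center_le hyc))
  · rw [h.center_iff]
    rw [← map_mul] at huu
    exact (QuotientGroup.eq_one_iff _).1 huu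
  · intro s hs
    have h3 := huc (QuotientGroup.mk' R s) ((mem_qSyl hRS).2 hs)
    rw [← map_mul, ← map_mul] at h3
    exact QuotientGroup.eq.1 h3

/-- `Z(L) = R = ⟨z⟩`, `L` of 2-rank one: the Sylow 2-subgroups of `G` are not quasi-dihedral -/
theorem false_of_qd (h : OC L R) {z : L} (hz1 : z ≠ 1) (hzz : z * z = 1) (hzc : ∀ x : L, x ∈ center L ↔ x = 1 ∨ x = z)
    (hR : ∀ r ∈ R, r = 1 ∨ r = z) (hnF : ∀ P : Sylow 2 L, ¬ Four (P : Subgroup L)) (S : Sylow 2 G)
    (hqd : Cfsg.IsQuasiDihedral (S : Subgroup G)) (hF : Four (S : Subgroup G)) : False := by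
  have h2 : Fact (Nat.Prime 2) := ⟨Nat.prime_two⟩
  have hLn := h.normal
  have hsim := h.simple
  have hq : IsQuasisimple L := ⟨h.perf, h.simple⟩
  have hRn := h.Rnormal
  have hzL : z ∈ center L := (hzc z).2 (Or.inr rfl)
  have hzR : (z : G) ∈ R := h.center_le hzL
  have hz1' : (z : G) ≠ 1 := fun h => hz1 (Subtype.ext h)
  have hzz' : (z : G) * z = 1 := congrArg Subtype.val hzz
  have hzC : (z : G) ∈ center G := by
    rw [mem_center_iff]
    intro g
    have h3 := hRn.conj_mem _ hzR g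
    rcases hR _ h3 with h4 | h4
    · exfalso
      apply hz1'
      have : (z : G) = g⁻¹ * (g * z * g⁻¹) * g := by group
      rw [this, h4]; group
    · exact mul_inv_eq_iff_eq_mul.1 h4
  have hzS : (z : G) ∈ (S : Subgroup G) := h.R_le S hzR
  -- the unique involution of `L`
  have hu : ∀ x : L, x ≠ 1 → x * x = 1 → x = z := by
    intro x hx1 hxx
    have h3 : IsPGroup 2 (zpowers x) := by
      rintro ⟨b, j, rfl⟩
      refine ⟨1, Subtype.ext ?_⟩
      change (x ^ j) ^ 2 ^ 1 = 1
      rw [pow_one, ← zpow_natCast, ← zpow_mul, mul_comm, zpow_mul, zpow_natCast, pow_two, hxx, one_zpow]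
    obtain ⟨P, hP⟩ := h3.exists_le_sylow
    have hzP : z ∈ (P : Subgroup L) := le_sylow_of_normal inferInstance h.center_two P hzL
    exact eq_of_not_four' P.2 (hnF P) (hP (mem_zpowers x)) hzP hx1 hz1 hxx hzz
  -- `L ≅ SL(2, F)`
  have hOL : Cfsg.oddCore L = ⊥ := by
    have hodd : Nat.Coprime (Nat.card (pPrimeCore 2 L)) 2 := Lib.Cores.pPrimeCore_coprime 2
    rcases SignalizersComponents.Components.quasisimple_normal hq (pPrimeCore 2 L)
      (Lib.Cores.pPrimeCore_normal 2) with h3 | h3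
    · exfalso
      rw [h3, card_top] at hodd
      have h4 : orderOf z ∣ Nat.card L := orderOf_dvd_natCard z
      rw [orderOf_eq_two hz1 hzz] at h4
      have := Nat.Coprime.eq_one_of_dvd hodd.symm h4
      omega
    · obtain ⟨k, hk⟩ := IsPGroup.iff_card.1 (h.center_two.to_le h3)
      rcases k with _ | k
      · rwa [pow_zero, card_eq_one] at hk
      · exfalso
        rw [hk] at hodd
        have := Nat.Coprime.eq_one_of_dvd hodd.symm (dvd_pow_self 2 (by omega))
        omega
  obtain ⟨F, i1, i2, hFodd, hF3, ⟨ψ⟩⟩ := TwoFusion.QGroupMain.exists_sl_two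
    (fun X _ _ _ S n hn hS => Cfsg.Agent.S0483.result S n hn hS) S (Or.inl hqd) L z (orderOf_eq_two hz1 hzz) hzC
    (fun x hx => hu x (by rintro rfl; rw [orderOf_one] at hx; omega) (by
      rw [← pow_two, ← hx]; exact pow_orderOf_eq_one x)) h.perf.commutator_eq_top hOL
  have h2F : (2 : F) ≠ 0 := by
    intro h3
    have h4 : ringChar F = 2 := by
      have h5 : ringChar F ∣ 2 := (ringChar.spec F 2).1 (by exact_mod_cast h3)
      rcases (Nat.dvd_prime Nat.prime_two).1 h5 with h6 | h6
      · exact absurd h6 (CharP.ringChar_ne_one)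
      · exact h6
    have h5 : CharP F 2 := by
      rw [← h4]
      exact ringChar.charP F
    obtain ⟨n, -, hn⟩ := FiniteField.card F 2
    rw [hn, ← Nat.not_even_iff_odd, even_iff_two_dvd] at hFodd
    exact hFodd (dvd_pow_self 2 n.2.ne')
  have hψc : (center L).map ψ.toMonoidHom = center (Matrix.SpecialLinearGroup (Fin 2) F) := by
    ext y
    constructor
    · rintro ⟨x, hx, rfl⟩
      rw [mem_center_iff]
      intro g
      obtain ⟨g, rfl⟩ := ψ.surjective g
      change ψ g * ψ x = ψ x * ψ g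
      rw [← map_mul, mem_center_iff.1 hx g, map_mul]
    · intro hy
      refine ⟨ψ.symm y, ?_, ψ.apply_symm_apply y⟩
      rw [SetLike.mem_coe, mem_center_iff]
      intro g
      apply ψ.injective
      rw [map_mul, map_mul, ψ.apply_symm_apply]
      exact mem_center_iff.1 hy (ψ g)
  let e : L ⧸ center L ≃* Matrix.ProjectiveSpecialLinearGroup (Fin 2) F :=
    QuotientGroup.congr (center L) (center (Matrix.SpecialLinearGroup (Fin 2) F)) ψ hψc
  -- the involution `t`
  obtain ⟨t, ht, ht1, htz, htt⟩ : ∃ t ∈ (S : Subgroup G), t ≠ 1 ∧ t ≠ z ∧ t * t = 1 := by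
    obtain ⟨a, ha, b, hb, ha1, hb1, hab, haa, hbb, -⟩ := hF
    by_cases h3 : a = z
    · exact ⟨b, hb, hb1, fun h4 => hab (h3.trans h4.symm), hbb⟩
    · exact ⟨a, ha, ha1, h3, haa⟩
  have htL : t ∉ L := by
    intro h3
    exact htz (congrArg Subtype.val (hu ⟨t, h3⟩ (fun h => ht1 (congrArg Subtype.val h)) (Subtype.ext htt)))
  have htinv : t⁻¹ = t := inv_eq_of_mul_eq_one_left htt
  have hnorm : ∀ g : G, g * t * g⁻¹ = t ∨ g * t * g⁻¹ = t * z → g ∈ normalizer ((S : Subgroup G) : Set G) := by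
    intro g hg
    refine h.rk.norm₂ ht hzS ht1 hz1' htz htt hzz' (mem_center_iff.1 hzC t) ?_ ?_
    · rcases hg with h3 | h3
      · rw [h3]; exact ht
      · rw [h3]; exact mul_mem ht hzS
    · have : g * (z : G) * g⁻¹ = z := by rw [mem_center_iff.1 hzC g]; group
      rw [this]; exact hzS
  have hmemS : ∀ g ∈ normalizer ((S : Subgroup G) : Set G), (∃ k : ℕ, g ^ 2 ^ k = 1) → g ∈ (S : Subgroup G) := by
    rintro g hg ⟨k, hk⟩
    exact Walter.PSLFacts.mem_of_pow S hg hk
  -- the automorphism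
  have hc : ∀ y : L, ((MulAut.conjNormal t y : L) : G) = t * y * t⁻¹ := fun y => MulAut.conjNormal_apply t y
  let α : MulAut L := MulAut.conjNormal t
  let w : MulAut (L ⧸ center L) := QuotientGroup.congr (center L) (center L) α
    (characteristic_iff_map_eq.1 inferInstance α)
  have hwm : ∀ y, w (QuotientGroup.mk' (center L) y) = QuotientGroup.mk' (center L) (α y) := fun y => rfl
  have hww : ∀ x, w (w x) = x := by
    intro y
    obtain ⟨y, rfl⟩ := QuotientGroup.mk'_surjective (center L) y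
    rw [hwm, hwm]
    have h6 : α (α y) = y := by
      apply Subtype.ext
      change ((MulAut.conjNormal t (MulAut.conjNormal t y) : L) : G) = y
      rw [hc, hc]
      calc t * (t * (y : G) * t⁻¹) * t⁻¹ = (t * t) * y * (t * t)⁻¹ := by group
        _ = y := by rw [htt]; group
    rw [h6]
  have hzinv : (z : G)⁻¹ = z := inv_eq_of_mul_eq_one_left hzz'
  -- lifts of fixed points
  have hfix : ∀ y : L, w (QuotientGroup.mk' (center L) y) = QuotientGroup.mk' (center L) y →
      t * (y : G) * t⁻¹ = y ∨ t * (y : G) * t⁻¹ = y * z := by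
    intro y hy
    rw [hwm] at hy
    have h3 := (hzc _).1 (QuotientGroup.eq.1 hy.symm)
    rcases h3 with h4 | h4
    · left
      have h5 : (y : G)⁻¹ * (α y : L) = 1 := congrArg Subtype.val h4
      rw [← hc]
      exact (inv_mul_eq_one.1 h5).symm
    · right
      have h5 : (y : G)⁻¹ * (α y : L) = z := congrArg Subtype.val h4
      rw [← hc, ← h5]
      change ((α y : L) : G) = _
      group
  have hfix' : ∀ y : L, w (QuotientGroup.mk' (center L) y) = QuotientGroup.mk' (center L) y →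
      (y : G) ∈ normalizer ((S : Subgroup G) : Set G) := by
    intro y hy
    apply hnorm
    rcases hfix y hy with h3 | h3
    · left
      have h4 : t * (y : G) = y * t := mul_inv_eq_iff_eq_mul.1 h3
      rw [← h4]; group
    · right
      have h4 : t * (y : G) = y * z * t := mul_inv_eq_iff_eq_mul.1 h3
      have h5 : (y : G) * t = t * y * z := by
        rw [h4]
        have h6 := mem_center_iff.1 hzC t
        calc (y : G) * t = y * (z * z) * t := by rw [hzz', mul_one]
          _ = y * z * (z * t) := by group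
          _ = y * z * (t * z) := by rw [h6]
          _ = _ := by group
      rw [h5]
      have h6 := mem_center_iff.1 hzC (y : G)
      calc t * (y : G) * z * (y : G)⁻¹ = t * (y * z) * (y : G)⁻¹ := by group
        _ = t * (z * y) * (y : G)⁻¹ := by rw [h6]
        _ = t * z := by group
  have hsqz : ∀ y : L, y ∉ center L → y * y ∈ center L → y * y = z := by
    intro y hy hyy
    rcases (hzc _).1 hyy with h3 | h3
    · exfalso
      apply hy
      rw [hzc]
      by_cases h4 : y = 1
      · exact Or.inl h4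
      · exact Or.inr (hu y h4 h3)
    · exact h3
  have hsq2 : ∀ y : L, y * y = z → ∃ k : ℕ, (y : G) ^ 2 ^ k = 1 := by
    intro y hy
    refine ⟨2, ?_⟩
    have h3 : (y : G) * y = z := congrArg Subtype.val hy
    calc (y : G) ^ 2 ^ 2 = (y * y) * (y * y) := by
          rw [show 2 ^ 2 = 4 by norm_num]; simp [pow_succ, mul_assoc]
      _ = 1 := by rw [h3, hzz']
  -- no four-group is centralised
  have hno : ∀ a b : L ⧸ center L, a ≠ 1 → b ≠ 1 → a ≠ b → a * a = 1 → b * b = 1 → a * b = b * a →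
      w a = a → w b = b → False := by
    intro a b ha1 hb1 hab haa hbb _ hwa hwb
    obtain ⟨a, rfl⟩ := QuotientGroup.mk'_surjective (center L) a
    obtain ⟨b, rfl⟩ := QuotientGroup.mk'_surjective (center L) b
    have haZ : a ∉ center L := fun h => ha1 ((QuotientGroup.eq_one_iff a).2 h)
    have hbZ : b ∉ center L := fun h => hb1 ((QuotientGroup.eq_one_iff b).2 h)
    rw [← map_mul] at haa hbb
    have haa' := hsqz a haZ ((QuotientGroup.eq_one_iff _).1 haa)
    have hbb' := hsqz b hbZ ((QuotientGroup.eq_one_iff _).1 hbb)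
    have haS : (a : G) ∈ (S : Subgroup G) := hmemS _ (hfix' a hwa) (hsq2 a haa')
    have hbS : (b : G) ∈ (S : Subgroup G) := hmemS _ (hfix' b hwb) (hsq2 b hbb')
    -- the four-group `T = ⟨t, z⟩`
    obtain ⟨T, hT, hTm⟩ := S0502.exists_klein (P := (S : Subgroup G)) (a := ⟨t, ht⟩) (b := ⟨z, hzS⟩)
      (by rw [pow_two]; exact Subtype.ext htt) (by rw [pow_two]; exact Subtype.ext hzz')
      (fun h => ht1 (congrArg Subtype.val h)) (fun h => hz1' (congrArg Subtype.val h))
      (fun h => htz (congrArg Subtype.val h)) (Subtype.ext (mem_center_iff.1 hzC t))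
    have hrel := ((Cfsg.Agent.S1190.result hqd).2 T hT).2
    have hTL : ∀ v ∈ T, (v : G) ∈ L → (v : G) = 1 ∨ (v : G) = z := by
      intro v hv hvL
      rcases (hTm v).1 hv with rfl | rfl | rfl | rfl
      · exact Or.inl rfl
      · exact absurd hvL htL
      · exact Or.inr rfl
      · exfalso
        apply htL
        have h3 : (t : G) = (t * z) * z := by rw [mul_assoc, hzz', mul_one]
        rw [h3]
        exact mul_mem hvL z.2
    have hN : ∀ v : (S : Subgroup G), ((v : G) * t * (v : G)⁻¹ = t ∨ (v : G) * t * (v : G)⁻¹ = t * z) →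
        v ∈ normalizer (T : Set (S : Subgroup G)) := by
      intro v hv
      have h3 : ∀ y ∈ T, v * y * v⁻¹ ∈ T := by
        intro y hy
        have h4 : v * ⟨z, hzS⟩ * v⁻¹ = ⟨z, hzS⟩ := by
          apply Subtype.ext
          change (v : G) * z * (v : G)⁻¹ = z
          rw [mem_center_iff.1 hzC v]; group
        have h5 : v * ⟨t, ht⟩ * v⁻¹ ∈ T := by
          rw [hTm]
          rcases hv with h6 | h6
          · exact Or.inr (Or.inl (Subtype.ext h6))
          · exact Or.inr (Or.inr (Or.inr (Subtype.ext h6)))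
        have hzT : (⟨z, hzS⟩ : (S : Subgroup G)) ∈ T := (hTm _).2 (Or.inr (Or.inr (Or.inl rfl)))
        rcases (hTm y).1 hy with rfl | rfl | rfl | rfl
        · simp
        · exact h5
        · rw [h4]; exact hzT
        · have h6 : v * (⟨t, ht⟩ * ⟨z, hzS⟩) * v⁻¹ = (v * ⟨t, ht⟩ * v⁻¹) * (v * ⟨z, hzS⟩ * v⁻¹) := by group
          rw [h6, h4]
          exact mul_mem h5 hzT
      exact mem_normalizer_fintype h3
    have hconj : ∀ y : L, w (QuotientGroup.mk' (center L) y) = QuotientGroup.mk' (center L) y →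
        ((y : G) * t * (y : G)⁻¹ = t ∨ (y : G) * t * (y : G)⁻¹ = t * z) := by
      intro y hy
      rcases hfix y hy with h3 | h3
      · left
        have h4 : t * (y : G) = y * t := mul_inv_eq_iff_eq_mul.1 h3
        rw [← h4]; group
      · right
        have h4 : t * (y : G) = y * z * t := mul_inv_eq_iff_eq_mul.1 h3
        have h5 : (y : G) * t = t * y * z := by
          rw [h4]
          have h6 := mem_center_iff.1 hzC t
          calc (y : G) * t = y * (z * z) * t := by rw [hzz', mul_one]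
            _ = y * z * (z * t) := by group
            _ = y * z * (t * z) := by rw [h6]
            _ = _ := by group
        rw [h5]
        have h6 := mem_center_iff.1 hzC (y : G)
        calc t * (y : G) * z * (y : G)⁻¹ = t * (y * z) * (y : G)⁻¹ := by group
          _ = t * (z * y) * (y : G)⁻¹ := by rw [h6]
          _ = t * z := by group
    have haN := hN ⟨a, haS⟩ (hconj a hwa)
    have hbN := hN ⟨b, hbS⟩ (hconj b hwb)
    have haT : (⟨a, haS⟩ : (S : Subgroup G)) ∉ T := by
      intro h3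
      rcases hTL _ h3 a.2 with h4 | h4
      · exact haZ ((hzc a).2 (Or.inl (Subtype.ext h4)))
      · exact haZ ((hzc a).2 (Or.inr (Subtype.ext h4)))
    have hbT : (⟨b, hbS⟩ : (S : Subgroup G)) ∉ T := by
      intro h3
      rcases hTL _ h3 b.2 with h4 | h4
      · exact hbZ ((hzc b).2 (Or.inl (Subtype.ext h4)))
      · exact hbZ ((hzc b).2 (Or.inr (Subtype.ext h4)))
    have habT : (⟨a, haS⟩ : (S : Subgroup G)) * ⟨b, hbS⟩ ∈ T := by
      have h3 := (Subgroup.mul_mem_iff_of_index_two (H := T.subgroupOf (normalizer (T : Set (S : Subgroup G)))) hrel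
        (a := ⟨_, haN⟩) (b := ⟨_, hbN⟩)).2 (iff_of_false haT hbT)
      exact h3
    have h4 : a * b ∈ center L := by
      rcases hTL _ habT (a * b).2 with h4 | h4
      · exact (hzc _).2 (Or.inl (Subtype.ext h4))
      · exact (hzc _).2 (Or.inr (Subtype.ext h4))
    apply hab
    have h5 : QuotientGroup.mk' (center L) a * QuotientGroup.mk' (center L) b = 1 := by
      rw [← map_mul]
      exact (QuotientGroup.eq_one_iff _).2 h4
    have h6 : QuotientGroup.mk' (center L) b * QuotientGroup.mk' (center L) b = 1 := by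
      rw [← map_mul]
      exact hbb
    exact mul_right_cancel (h5.trans h6.symm)
  -- `w` is not inner
  have hni : ∀ c : L ⧸ center L, ∃ x, w x ≠ c * x * c⁻¹ := by
    intro c
    by_contra hcon
    push Not at hcon
    obtain ⟨c, rfl⟩ := QuotientGroup.mk'_surjective (center L) c
    have hαc : α = MulAut.conj c := by
      refine eq_of_perfect h.perf _ _ fun v => ?_
      have h6 := hcon (QuotientGroup.mk' (center L) v)
      rw [hwm, ← map_inv, ← map_mul, ← map_mul] at h6
      exact QuotientGroup.eq.1 h6.symm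
    have h6 : (c : G)⁻¹ * t ∈ R := by
      refine h.cent _ ?_ ?_
      · intro l hl
        have h7 := hc ⟨l, hl⟩
        have h8 : (c : G) * l * (c : G)⁻¹ = t * l * t⁻¹ := by
          rw [← h7]
          change ((MulAut.conj c ⟨l, hl⟩ : L) : G) = ((α ⟨l, hl⟩ : L) : G)
          rw [hαc]
        symm
        calc l * ((c : G)⁻¹ * t) = (c : G)⁻¹ * ((c : G) * l * (c : G)⁻¹) * t := by group
          _ = (c : G)⁻¹ * (t * l * t⁻¹) * t := by rw [h8]
          _ = (c : G)⁻¹ * t * l := by group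
      · intro r hr
        rcases hR r hr with rfl | rfl
        · rw [mul_one, one_mul]
        · exact mem_center_iff.1 hzC _
    apply htL
    have h7 : (c : G)⁻¹ * t ∈ L := by
      rcases hR _ h6 with h8 | h8
      · rw [h8]; exact one_mem L
      · rw [h8]; exact z.2
    have h8 : t = c * ((c : G)⁻¹ * t) := by group
    rw [h8]
    exact mul_mem c.2 h7
  -- the element `u`
  obtain ⟨u, huS, huZ, huu, hus⟩ := h.exists_u S
  have hut : w (QuotientGroup.mk' (center L) u) = QuotientGroup.mk' (center L) u := by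
    rw [hwm]
    apply QuotientGroup.eq.2
    rw [h.center_iff]
    have h3 := hus t ht
    have h4 : (((α u)⁻¹ * u : L) : G) = t * ((t * u)⁻¹ * (u * t)) * t⁻¹ := by
      change (((α u : L) : G))⁻¹ * (u : G) = _
      have h5 : ((α u : L) : G) = t * u * t⁻¹ := hc u
      rw [h5]; group
    rw [h4]
    exact hRn.conj_mem _ h3 t
  have hu1 : QuotientGroup.mk' (center L) u ≠ 1 := fun h => huZ ((QuotientGroup.eq_one_iff u).1 h)
  have huu' : QuotientGroup.mk' (center L) u * QuotientGroup.mk' (center L) u = 1 := by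
    rw [← map_mul]
    exact (QuotientGroup.eq_one_iff _).2 huu
  obtain ⟨T, m, hT, -⟩ := Cfsg.Agent.Lib.PSL2Torus.exists_torus h2F e hu1 huu'
  obtain ⟨-, B, -, hBw, hBt, hB⟩ := Cfsg.Agent.Lib.PSL2Outer.outer_main h2F e hww hno hu1 huu' hut hni hT
  rw [Nat.card_eq_fintype_card (α := F)] at hB
  have hB1 : 1 < Nat.card B ∧ Odd (Nat.card B) := by
    rcases hB with ⟨h3, h4⟩ | ⟨h3, h4⟩
    · exact ⟨by omega, by rw [Nat.odd_iff]; omega⟩
    · exact ⟨by omega, by rw [Nat.odd_iff]; omega⟩
  obtain ⟨b, hb, hb1⟩ : ∃ b ∈ B, b ≠ 1 := by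
    have h3 : Nontrivial B := Finite.one_lt_card_iff_nontrivial.1 hB1.1
    obtain ⟨b, hb⟩ := exists_ne (1 : B)
    exact ⟨b, b.2, fun h => hb (Subtype.ext h)⟩
  have hbodd : Odd (orderOf b) := by
    have h3 : orderOf b ∣ Nat.card B := B.orderOf_dvd_natCard hb
    exact hB1.2.of_dvd_nat h3
  obtain ⟨b, rfl⟩ := QuotientGroup.mk'_surjective (center L) b
  set N := orderOf (QuotientGroup.mk' (center L) b) with hN
  have hzN : z ^ N = z := by
    obtain ⟨k, hk⟩ := hbodd
    rw [hk, pow_succ, pow_mul, pow_two, hzz, one_pow, one_mul]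
  -- a lift of odd order
  obtain ⟨c, hcN, hcb⟩ : ∃ c : L, c ^ N = 1 ∧ QuotientGroup.mk' (center L) c = QuotientGroup.mk' (center L) b := by
    have h3 : b ^ N ∈ center L := by
      apply (QuotientGroup.eq_one_iff _).1
      change QuotientGroup.mk' (center L) (b ^ N) = 1
      rw [map_pow, hN, pow_orderOf_eq_one]
    rcases (hzc _).1 h3 with h4 | h4
    · exact ⟨b, h4, rfl⟩
    · refine ⟨b * z, ?_, ?_⟩
      · have h5 : Commute b z := (mem_center_iff.1 hzL b)
        rw [h5.mul_pow, h4, hzN, hzz]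
      · rw [map_mul]
        have h5 : QuotientGroup.mk' (center L) z = 1 := (QuotientGroup.eq_one_iff z).2 hzL
        rw [h5, mul_one]
  rw [← hcb] at hb hb1
  have hcN' : (c : G) ^ N = 1 := congrArg Subtype.val hcN
  have hzN' : (z : G) ^ N = z := congrArg Subtype.val hzN
  have hkey : ∀ d : G, d ^ N = 1 → (d * z) ^ N ≠ 1 := by
    intro d hd hdz
    have h5 : Commute d (z : G) := (mem_center_iff.1 hzC d)
    rw [h5.mul_pow, hd, hzN', one_mul] at hdz
    exact hz1' hdz
  have hct : t * (c : G) * t⁻¹ = c := by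
    rcases hfix c (hBw _ hb) with h3 | h3
    · exact h3
    · exfalso
      refine hkey c hcN' ?_
      rw [← h3, conj_pow, hcN']; group
  have hcS : (c : G) ∈ normalizer ((S : Subgroup G) : Set G) := hfix' c (hBw _ hb)
  have hcu : (u : G) * c * (u : G)⁻¹ = (c : G)⁻¹ := by
    have h3 := hBt _ hb
    rw [← map_inv, ← map_mul, ← map_mul, ← map_inv] at h3
    have h4 := (hzc _).1 (QuotientGroup.eq.1 h3.symm)
    rcases h4 with h5 | h5
    · have h6 : ((c : G)⁻¹)⁻¹ * ((u : G) * c * (u : G)⁻¹) = 1 := congrArg Subtype.val h5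
      exact (inv_mul_eq_one.1 h6).symm
    · exfalso
      have h6 : ((c : G)⁻¹)⁻¹ * ((u : G) * c * (u : G)⁻¹) = z := congrArg Subtype.val h5
      refine hkey ((c : G)⁻¹) (by rw [inv_pow, hcN', inv_one]) ?_
      rw [← h6]
      have h7 : (c : G)⁻¹ * (((c : G)⁻¹)⁻¹ * ((u : G) * c * (u : G)⁻¹)) = (u : G) * c * (u : G)⁻¹ := by group
      rw [h7, conj_pow, hcN']; group
  have hc2 : (c : G)⁻¹ * (c : G)⁻¹ ∈ (S : Subgroup G) := by
    have h3 : (c : G) * (u : G)⁻¹ * (c : G)⁻¹ ∈ (S : Subgroup G) :=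
      (mem_normalizer_iff.1 hcS _).1 (inv_mem huS)
    have h4 : (c : G)⁻¹ * (c : G)⁻¹ = u * (c * (u : G)⁻¹ * (c : G)⁻¹) := by
      calc (c : G)⁻¹ * (c : G)⁻¹ = ((u : G) * c * (u : G)⁻¹) * (c : G)⁻¹ := by rw [hcu]
        _ = _ := by group
    rw [h4]
    exact mul_mem huS h3
  obtain ⟨k, hk⟩ := S.2 ⟨_, hc2⟩
  have hk' : ((c : G)⁻¹ * (c : G)⁻¹) ^ 2 ^ k = 1 := congrArg Subtype.val hk
  have h3 : (c : G) ^ (2 ^ (k + 1)) = 1 := by
    have h4 : ((c : G)⁻¹ * (c : G)⁻¹) ^ 2 ^ k = ((c : G) ^ (2 ^ (k + 1)))⁻¹ := by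
      rw [← pow_two, ← pow_mul, ← inv_pow, pow_succ, mul_comm]
    rw [h4, inv_eq_one] at hk'
    exact hk'
  have h4 : (c : G) = 1 := by
    have h5 : orderOf (c : G) ∣ N := orderOf_dvd_of_pow_eq_one hcN'
    have h6 : orderOf (c : G) ∣ 2 ^ (k + 1) := orderOf_dvd_of_pow_eq_one h3
    have h7 : Nat.Coprime N (2 ^ (k + 1)) := Nat.Coprime.pow_right _ (Nat.coprime_two_right.2 hbodd)
    exact orderOf_eq_one_iff.1 (Nat.eq_one_of_dvd_coprimes h7 h5 h6)
  apply hb1
  have h5 : c = 1 := Subtype.ext h4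
  rw [h5, map_one]

end OC

end Cfsg.Agent.R2.RkInt
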