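import Cfsg.Agent.H335.Quat
import Cfsg.Agent.R2.RkInt.OneMain

/-!
# `SL(2, 5)`

`sl_five` : a quasisimple group with quaternion Sylow 2-subgroups meeting in the centre is `SL(2, 5)`.
-/

set_option autoImplicit false
set_option linter.dupNamespace false

namespace Cfsg.Agent.R2.RkInt

open Subgroup Cfsg Cfsg.Agent.H335 Cfsg.Agent.TwoGenCore
open Cfsg.Agent.SignalizersComponents.Components

/-- `SL(2, F) ≅ SL(2, E)` from `F ≅ E` -/
def slEquiv {F E : Type*} [Field F] [Field E] (f : F ≃+* E) :
    Matrix.SpecialLinearGroup (Fin 2) F ≃* Matrix.SpecialLinearGroup (Fin 2) E where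
  toFun := Matrix.SpecialLinearGroup.map f.toRingHom
  invFun := Matrix.SpecialLinearGroup.map f.symm.toRingHom
  left_inv x := by
    ext i j
    simp
  right_inv x := by
    ext i j
    simp
  map_mul' x y := map_mul _ x y

/-- isomorphism modulo centres -/
theorem center_congr {A B : Type*} [Group A] [Group B] (ψ : A ≃* B) : Nonempty (A ⧸ center A ≃* B ⧸ center B) := by
  have h : (center A).map ψ.toMonoidHom = center B := by
    ext y
    constructor
    · rintro ⟨x, hx, rfl⟩
      rw [mem_center_iff]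
      intro g
      obtain ⟨g, rfl⟩ := ψ.surjective g
      change ψ g * ψ x = ψ x * ψ g
      rw [← map_mul, mem_center_iff.1 hx g, map_mul]
    · intro hy
      refine ⟨ψ.symm y, ?_, ψ.apply_symm_apply y⟩
      rw [SetLike.mem_coe, mem_center_iff]
      intro g
      apply ψ.injective
      rw [map_mul, map_mul, ψ.apply_symm_apply]
      exact mem_center_iff.1 hy (ψ g)
  exact ⟨QuotientGroup.congr (center A) (center B) ψ h⟩

variable {L : Type*} [Group L] [Finite L]

theorem oddCore_quasi (hq : IsQuasisimple L) (hZ : IsPGroup 2 (center L)) : oddCore L = ⊥ := by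
  have h2 : Fact (Nat.Prime 2) := ⟨Nat.prime_two⟩
  have hodd : Nat.Coprime (Nat.card (pPrimeCore 2 L)) 2 := Lib.Cores.pPrimeCore_coprime 2
  rcases quasisimple_normal hq (pPrimeCore 2 L) (Lib.Cores.pPrimeCore_normal 2) with h3 | h3
  · exfalso
    rw [h3, card_top] at hodd
    exact quasisimple_not_isSolvable hq (Cfsg.Agent.S0205.result (Nat.coprime_two_right.1 hodd))
  · obtain ⟨k, hk⟩ := IsPGroup.iff_card.1 (hZ.to_le h3)
    rcases k with _ | k
    · rwa [pow_zero, card_eq_one] at hk
    · exfalso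
      rw [hk] at hodd
      have := Nat.Coprime.eq_one_of_dvd hodd.symm (dvd_pow_self 2 (by omega))
      omega

theorem sl_five (hq : IsQuasisimple L) (hZ : IsPGroup 2 (center L)) (hT : TIZ L) (P : Sylow 2 L)
    (hF : ¬ Four (P : Subgroup L)) : Nonempty (L ≃* Matrix.SpecialLinearGroup (Fin 2) (ZMod 5)) := by
  have h2 : Fact (Nat.Prime 2) := ⟨Nat.prime_two⟩
  have h5p : Fact (Nat.Prime 5) := ⟨Nat.prime_five⟩
  have hns := quasisimple_not_isSolvable hq
  have hsim := hq.2
  have hna := quot_nonab hq.1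
  obtain ⟨⟨n, ⟨e⟩⟩, z, hz1, hzz, hzc⟩ := exists_center hq hZ P hF
  have hzL : z ∈ center L := (hzc z).2 (Or.inr rfl)
  have hcz : center L = zpowers z := by
    apply le_antisymm
    · intro x hx
      rcases (hzc x).1 hx with rfl | rfl
      · exact one_mem _
      · exact mem_zpowers x
    · rw [zpowers_le]
      exact hzL
  have hC : CycInt L := by
    intro S T hne
    refine isCyclic_of_le (hT S T hne) ?_
    rw [hcz]
    infer_instance
  obtain rfl := hC.quaternion_eight hns P n e
  obtain ⟨G₂, hG₂n, hodd, F, i1, i2, h8, h5, ⟨ψ⟩⟩ := hC.quaternion hns (oddCore_quasi hq hZ) P e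
  have hG₂ : G₂ = ⊤ := by
    rcases quasisimple_normal hq G₂ hG₂n with h3 | h3
    · exact h3
    · exfalso
      obtain ⟨a, ha, b, hb, -, -, hab⟩ := quat_pair P.2 hF e (le_sylow_of_normal inferInstance hZ P hzL) hz1 hzz
      -- `P ≤ G₂`
      have hPG : ∀ x ∈ (P : Subgroup L), x ∈ G₂ := by
        intro x hx
        obtain ⟨k, hk⟩ := P.2 ⟨x, hx⟩
        have hk' : x ^ 2 ^ k = 1 := congrArg Subtype.val hk
        have h7 : orderOf (QuotientGroup.mk' G₂ x) ∣ 2 ^ k := orderOf_dvd_of_pow_eq_one (by rw [← map_pow, hk', map_one])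
        have h8 : orderOf (QuotientGroup.mk' G₂ x) ∣ G₂.index := orderOf_dvd_natCard _
        have h9 : Nat.Coprime (2 ^ k) G₂.index := Nat.Coprime.pow_left k (Nat.coprime_two_left.2 hodd)
        have h10 := Nat.eq_one_of_dvd_coprimes h9 h7 h8
        rw [orderOf_eq_one_iff] at h10
        exact (QuotientGroup.eq_one_iff x).1 h10
      have h4 := mem_center_iff.1 (h3 (hPG b hb)) a
      rw [h4] at hab
      exact hz1 (mul_eq_right.1 hab.symm)
  let ψ' : L ≃* Matrix.SpecialLinearGroup (Fin 2) F := (Subgroup.topEquiv.symm.trans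
    (MulEquiv.subgroupCongr hG₂.symm)).trans ψ
  obtain ⟨e'⟩ := center_congr ψ'
  have hcard : Fintype.card F = 5 := by
    by_contra hne
    have h11 : 11 ≤ Fintype.card F := by omega
    obtain ⟨S⟩ : Nonempty (Sylow 2 (L ⧸ center L)) := inferInstance
    exact Walter.PSLFacts.odd_not_stronglyEmbedded h8 h11 e' (bender hna) _
      (stronglyEmbedded hna (ti_quot hZ hT) S)
  have f : F ≃+* ZMod 5 := FiniteField.ringEquivOfCardEq (by rw [hcard, ZMod.card])
  exact ⟨ψ'.trans (slEquiv f)⟩

end Cfsg.Agent.R2.RkInt
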