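import Cfsg.Agent.H335.Over
import Cfsg.Agent.R2.RkInt.InnW
import Cfsg.Agent.R2.RkInt.Closed
import Cfsg.Agent.R2.RkInt.RankOne
import Cfsg.Agent.R2.RkInt.Quasi

/-!
# Simple groups with a strongly closed abelian 2-subgroup

* `ti_of_stronglyEmbedded` : a simple group with a strongly embedded subgroup has independent Sylow 2-subgroups;
* `BList` : `PSL(2, 2^n)`, `Sz`, `PSU(3, 2^n)`; `bList_of_ti`, `innP_of_ti`;
* `dich_simple`: a strongly closed abelian subgroup of the Sylow 2-subgroup `S` of the simple group `X`: `S` is abelian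
  or the Sylow 2-subgroups of `X` are independent.
-/

set_option autoImplicit false
set_option linter.dupNamespace false

namespace Cfsg.Agent.R2.RkInt

open Subgroup Cfsg Cfsg.Agent.H335 Cfsg.Agent.TwoGenCore
open Cfsg.Agent.Walter.Types
open Cfsg.Agent.TwoFusion.StronglyEmbeddedBasic (mem_of_commute isConj_of_involutions exists_involution
  mul_self_of_orderOf orderOf_eq_two_of_mul_self)

variable {X : Type*} [Group X] [Finite X]

/-- the Sylow 2-subgroups are independent -/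
def TI (X : Type*) [Group X] : Prop :=
  ∀ S T : Sylow 2 X, S ≠ T → (S : Subgroup X) ⊓ T = ⊥

omit [Finite X] in
theorem TI.cycInt (h : TI X) : CycInt X := by
  intro S T hne
  rw [h S T hne]
  infer_instance

theorem ti_of_stronglyEmbedded [IsSimpleGroup X] (hna : ∃ a b : X, a * b ≠ b * a) (H : Subgroup X)
    (hH : Cfsg.IsStronglyEmbedded H) : TI X := by
  have h2 : Fact (Nat.Prime 2) := ⟨Nat.prime_two⟩
  obtain ⟨Q, hQ, -⟩ := StrongEmb.Strong.exists_isSplit hna H hH
  obtain ⟨t, ht, ht2⟩ := exists_involution hH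
  obtain ⟨hQ2, hQm⟩ := StrongEmb.Split.isPGroup_of_isSplit hH hQ (StrongEmb.Simple.commPair_of_simple hna ht2)
  -- a Sylow 2-subgroup containing an involution of `H` is `Q`
  have key : ∀ (S : Sylow 2 X) (x : X), x ∈ (S : Subgroup X) → x ∈ H → orderOf x = 2 → (S : Subgroup X) = Q := by
    intro S x hxS hxH hx2
    have hne : (S : Subgroup X) ≠ ⊥ := by
      intro h
      rw [h, mem_bot] at hxS
      rw [hxS, orderOf_one] at hx2
      omega
    obtain ⟨u, hu, hu1, huu, huc⟩ := exists_inv S.2 hne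
    have hu2 : orderOf u = 2 := orderOf_eq_two_of_mul_self huu hu1
    have huH : u ∈ H := mem_of_commute hH hxH hx2 (huc x hxS).symm
    have hSQ : (S : Subgroup X) ≤ Q := by
      intro s hs
      refine hQm s (mem_of_commute hH huH hu2 (huc s hs)) ?_
      obtain ⟨k, hk⟩ := IsPGroup.iff_orderOf.1 S.2 ⟨s, hs⟩
      exact ⟨k, by rw [Subgroup.orderOf_mk] at hk; exact hk⟩
    exact (S.3 hQ2 hSQ).symm
  intro S T hne
  by_contra hbot
  obtain ⟨x, hx, hx1, hxx, -⟩ := exists_inv (S.2.to_le (inf_le_left : (S : Subgroup X) ⊓ T ≤ S)) hbot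
  have hx2 : orderOf x = 2 := orderOf_eq_two_of_mul_self hxx hx1
  obtain ⟨g, hg⟩ := isConj_iff.1 (isConj_of_involutions hH x t hx2 ht2)
  have hm : ∀ U : Sylow 2 X, x ∈ (U : Subgroup X) → ((g • U : Sylow 2 X) : Subgroup X) = Q := by
    intro U hU
    refine key (g • U) t ?_ ht ht2
    rw [mem_smul_sylow, ← hg]
    have : g⁻¹ * (g * x * g⁻¹) * g = x := by group
    rw [this]
    exact hU
  have h3 : g • S = g • T := Sylow.ext ((hm S hx.1).trans (hm T hx.2).symm)
  exact hne (smul_left_cancel g h3)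

/-- Bender's list -/
def BList (X : Type*) [Group X] : Prop :=
  (∃ (F : Type) (_ : Field F) (_ : Fintype F), (∃ n : ℕ, 2 ≤ n ∧ Fintype.card F = 2 ^ n) ∧
      Nonempty (X ≃* Matrix.ProjectiveSpecialLinearGroup (Fin 2) F)) ∨
    Cfsg.Lie.IsoSuzuki X ∨
    (∃ (F : Type) (_ : Field F) (_ : Fintype F) (n : ℕ), 2 ≤ n ∧
      Fintype.card F = (2 ^ n) ^ 2 ∧ Nonempty (X ≃* Cfsg.PSU 3 F (2 ^ n)))

theorem stronglyEmbedded [IsSimpleGroup X] (hna : ∃ a b : X, a * b ≠ b * a) (h : TI X) (S : Sylow 2 X) :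
    IsStronglyEmbedded (normalizer ((S : Subgroup X) : Set X)) := by
  refine stronglyEmbedded_of_ti h S (ne_bot_of_not_cyclic (not_cyclic_of_simple hna S)) ?_
  intro hn
  exact not_solvable_of_simple hna (solvable_of_normal S hn)

theorem bList_of_ti [IsSimpleGroup X] (hna : ∃ a b : X, a * b ≠ b * a) (h : TI X) : BList X := by
  obtain ⟨S⟩ : Nonempty (Sylow 2 X) := inferInstance
  exact StrongEmb.Strong.result hna _ (stronglyEmbedded hna h S)

theorem innP_of_ti [IsSimpleGroup X] (hna : ∃ a b : X, a * b ≠ b * a) (h : TI X) : InnP X := by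
  rcases bList_of_ti hna h with ⟨F, i1, i2, ⟨n, hn, hF⟩, he⟩ | h1 | ⟨F, i1, i2, n, hn, hF, ⟨e⟩⟩
  · exact innP_wType hna (Or.inl ⟨F, i1, i2, n, hn, hF, he⟩)
  · exact innP_suzuki h1
  · exact innP_psu h.cycInt hn hF e

/-- all involutions are conjugate -/
theorem conj_of_ti [IsSimpleGroup X] (hna : ∃ a b : X, a * b ≠ b * a) (h : TI X) {x y : X} (hx1 : x ≠ 1)
    (hxx : x * x = 1) (hy1 : y ≠ 1) (hyy : y * y = 1) : ∃ g : X, g * x * g⁻¹ = y := by
  obtain ⟨S⟩ : Nonempty (Sylow 2 X) := inferInstance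
  exact isConj_iff.1 (isConj_of_involutions (stronglyEmbedded hna h S) x y (orderOf_eq_two_of_mul_self hxx hx1)
    (orderOf_eq_two_of_mul_self hyy hy1))

omit [Finite X] in
/-- an element moving a nontrivial element of `S` into `S` normalises `S` -/
theorem TI.norm (h : TI X) {S : Sylow 2 X} {x g : X} (hx : x ∈ (S : Subgroup X)) (hx1 : x ≠ 1)
    (hg : g * x * g⁻¹ ∈ (S : Subgroup X)) : g ∈ normalizer ((S : Subgroup X) : Set X) := by
  refine Sylow.smul_eq_iff_mem_normalizer.1 ?_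
  by_contra hne
  have h1 := h _ _ hne
  have h2 : g * x * g⁻¹ ∈ ((g • S : Sylow 2 X) : Subgroup X) ⊓ S := by
    refine ⟨mem_smul_sylow.2 ?_, hg⟩
    have : g⁻¹ * (g * x * g⁻¹) * g = x := by group
    rw [this]
    exact hx
  rw [h1, mem_bot] at h2
  apply hx1
  have : x = g⁻¹ * (g * x * g⁻¹) * g := by group
  rw [this, h2]
  group

/-- the involutions of a Sylow 2-subgroup are central in it -/
theorem central_of_ti [IsSimpleGroup X] (hna : ∃ a b : X, a * b ≠ b * a) (h : TI X) (S : Sylow 2 X) {x : X}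
    (hx : x ∈ (S : Subgroup X)) (hxx : x * x = 1) : ∀ s ∈ (S : Subgroup X), s * x = x * s := by
  by_cases hx1 : x = 1
  · intro s _
    rw [hx1, mul_one, one_mul]
  have hne : (S : Subgroup X) ≠ ⊥ := by
    intro h
    rw [h, mem_bot] at hx
    exact hx1 hx
  obtain ⟨u, hu, hu1, huu, huc⟩ := exists_inv S.2 hne
  obtain ⟨g, hg⟩ := conj_of_ti hna h hu1 huu hx1 hxx
  have hgn := h.norm hu hu1 (g := g) (by rw [hg]; exact hx)
  intro s hs
  have h4 : g⁻¹ * s * g ∈ (S : Subgroup X) := by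
    have := (mem_normalizer_iff.1 (inv_mem hgn) s).1 hs
    rwa [inv_inv] at this
  calc s * x = g * ((g⁻¹ * s * g) * u) * g⁻¹ := by rw [← hg]; group
    _ = g * (u * (g⁻¹ * s * g)) * g⁻¹ := by rw [huc _ h4]
    _ = x * s := by rw [← hg]; group

/-- Walter's theorem -/
theorem wType_of_comm [IsSimpleGroup X] (hna : ∃ a b : X, a * b ≠ b * a) (S : Sylow 2 X)
    (hc : ∀ a ∈ (S : Subgroup X), ∀ b ∈ (S : Subgroup X), a * b = b * a) : WType X := by
  refine Walter.Main.wType_of_step Walter.StepAll.step X inferInstance ?_ S hc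
  intro hm
  obtain ⟨a, b, hab⟩ := hna
  exact hab (hm.is_comm.comm a b)

theorem dich_simple [IsSimpleGroup X] (hna : ∃ a b : X, a * b ≠ b * a) (S : Sylow 2 X) (A : Subgroup X) (hA : A ≠ ⊥)
    (hAc : IsMulCommutative A) (hcl : Cfsg.IsStronglyClosed A (S : Subgroup X)) :
    (∀ a ∈ (S : Subgroup X), ∀ b ∈ (S : Subgroup X), a * b = b * a) ∨ TI X := by
  rcases Cfsg.Agent.S1169.result S A hA hAc hcl with hc | ⟨H, hH⟩
  · exact Or.inl (Walter.Main.comm_of_isMulCommutative hc)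
  · exact Or.inr (ti_of_stronglyEmbedded hna H hH)

theorem RkInt.simple_cases [IsSimpleGroup X] (hna : ∃ a b : X, a * b ≠ b * a) (h : RkInt X) (S : Sylow 2 X) :
    (∀ a ∈ (S : Subgroup X), ∀ b ∈ (S : Subgroup X), a * b = b * a) ∨ TI X :=
  dich_simple hna S _ (omz_ne_bot S.2 (ne_bot_of_not_cyclic (not_cyclic_of_simple hna S))) (omz_comm _)
    (h.closed S)

end Cfsg.Agent.R2.RkInt
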