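import Cfsg.Agent.R2.RkInt.Closed
import Cfsg.Agent.R2.RkInt.RankOne
import Cfsg.Agent.R2.RkInt.Quasi

/-!
# Sylow 2-subgroups of `L` meeting in `Z(L)`

`L ≤ G`, `RkInt G`, and a 2-element of `C(L)` outside `L`.
-/

set_option autoImplicit false
set_option linter.dupNamespace false

namespace Cfsg.Agent.R2.RkInt

open Subgroup Cfsg Cfsg.Agent.TwoGenCore Cfsg.Agent.H335

variable {G : Type*} [Group G] [Finite G]

omit [Finite G] in
/-- a Sylow 2-subgroup of `L` is determined by an overgroup -/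
theorem sylow_eq_subgroupOf {L : Subgroup G} (P : Sylow 2 L) (S : Sylow 2 G)
    (h : (P : Subgroup L).map L.subtype ≤ S) : (P : Subgroup L) = (S : Subgroup G).subgroupOf L := by
  have h1 : IsPGroup 2 ((S : Subgroup G).subgroupOf L) := S.2.comap_of_injective _ L.subtype_injective
  refine (P.3 h1 ?_).symm
  intro x hx
  exact h ⟨x, hx, rfl⟩

omit [Finite G] in
theorem sylow_eq_of_pair (h : RkInt G) (L : Subgroup G) {P T : Sylow 2 L} {c : G} (hc2 : ∃ k : ℕ, c ^ 2 ^ k = 1)
    (hc : ∀ l ∈ L, c * l = l * c) {x y : G} (hx : x ∈ ((P : Subgroup L) ⊓ T).map L.subtype ⊔ zpowers c)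
    (hy : y ∈ ((P : Subgroup L) ⊓ T).map L.subtype ⊔ zpowers c) (hx1 : x ≠ 1) (hy1 : y ≠ 1) (hxy : x ≠ y)
    (hxx : x * x = 1) (hyy : y * y = 1) (hcc : x * y = y * x) : P = T := by
  have hZ2 : IsPGroup 2 (zpowers c) := by
    obtain ⟨k, hk⟩ := hc2
    rintro ⟨b, j, rfl⟩
    refine ⟨k, Subtype.ext ?_⟩
    change (c ^ j) ^ 2 ^ k = 1
    rw [← zpow_natCast, ← zpow_mul, mul_comm, zpow_mul, zpow_natCast, hk, one_zpow]
  have key : ∀ U : Sylow 2 L, IsPGroup 2 ((U : Subgroup L).map L.subtype ⊔ zpowers c : Subgroup G) := by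
    intro U
    refine IsPGroup.to_sup_of_normal_left' (U.2.map _) hZ2 ?_
    rw [zpowers_le]
    apply Subgroup.centralizer_le_normalizer
    rw [mem_centralizer_iff]
    rintro _ ⟨u, -, rfl⟩
    exact (hc u u.2).symm
  obtain ⟨A, hA⟩ := (key P).exists_le_sylow
  obtain ⟨B, hB⟩ := (key T).exists_le_sylow
  have h1 : ((P : Subgroup L) ⊓ T).map L.subtype ⊔ zpowers c ≤ A :=
    (sup_le_sup_right (map_mono inf_le_left) _).trans hA
  have h2 : ((P : Subgroup L) ⊓ T).map L.subtype ⊔ zpowers c ≤ B :=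
    (sup_le_sup_right (map_mono inf_le_right) _).trans hB
  have hAB : A = B := h A B (four_of_pair ⟨h1 hx, h2 hx⟩ ⟨h1 hy, h2 hy⟩ hx1 hy1 hxy hxx hyy hcc)
  subst hAB
  exact Sylow.ext ((sylow_eq_subgroupOf P A (le_sup_left.trans hA)).trans
    (sylow_eq_subgroupOf T A (le_sup_left.trans hB)).symm)

/-- an involution outside `L` centralising `L` -/
theorem tiz_of_inv (h : RkInt G) (L : Subgroup G) {z : G} (hzL : z ∉ L) (hzz : z * z = 1)
    (hzc : ∀ l ∈ L, z * l = l * z) : TIZ L := by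
  intro P T hPT x hx
  by_contra hxc
  have hbot : (P : Subgroup L) ⊓ T ≠ ⊥ := by
    intro hb
    rw [hb, mem_bot] at hx
    rw [hx] at hxc
    exact hxc (one_mem _)
  obtain ⟨u, hu, hu1, huu, -⟩ := exists_inv (P.2.to_le (inf_le_left : (P : Subgroup L) ⊓ T ≤ P)) hbot
  have hz1 : z ≠ 1 := by
    rintro rfl
    exact hzL L.one_mem
  refine hPT (sylow_eq_of_pair h L ⟨1, by rw [pow_one, pow_two, hzz]⟩ hzc (x := z) (y := u)
    (mem_sup_right (mem_zpowers z)) (mem_sup_left ⟨u, hu, rfl⟩) hz1 (fun h => hu1 (Subtype.ext h)) ?_ hzz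
    (congrArg Subtype.val huu) (hzc u u.2))
  intro he
  exact hzL (he ▸ u.2)

/-- an element of order 4 centralising `L` with square in `Z(L)`; `L` of 2-rank 1 -/
theorem tiz_of_root (h : RkInt G) (L : Subgroup G) (hnF : ∀ P : Sylow 2 L, ¬ Four (P : Subgroup L)) {z : L} {r : G}
    (hz1 : z ≠ 1) (hzz : z * z = 1) (hzc : ∀ x : L, x ∈ center L ↔ x = 1 ∨ x = z) (hr : ∀ l ∈ L, r * l = l * r)
    (hrr : r * r = z) : TIZ L := by
  intro P T hPT x hx
  by_contra hxc
  rw [hzc] at hxc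
  push Not at hxc
  have hzC : z ∈ center L := (hzc z).2 (Or.inr rfl)
  have hC2 : IsPGroup 2 (center L) := by
    rintro ⟨a, ha⟩
    refine ⟨1, Subtype.ext ?_⟩
    change a ^ 2 ^ 1 = 1
    rcases (hzc a).1 ha with rfl | rfl
    · rw [one_pow]
    · rw [pow_one, pow_two, hzz]
  have hzI : z ∈ (P : Subgroup L) ⊓ T :=
    ⟨le_sylow_of_normal inferInstance hC2 P hzC, le_sylow_of_normal inferInstance hC2 T hzC⟩
  have hI2 : IsPGroup 2 ((P : Subgroup L) ⊓ T : Subgroup L) := P.2.to_le inf_le_left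
  obtain ⟨b, hb, hbb, -⟩ := exists_root' hI2 (fun hF => hnF P (hF.mono inf_le_left)) hzI hz1 hzz hx hxc.1 hxc.2
  have hbb' : (b : G) * b = z := congrArg Subtype.val hbb
  have hzz' : (z : G) * z = 1 := congrArg Subtype.val hzz
  have hz1' : (z : G) ≠ 1 := fun h => hz1 (Subtype.ext h)
  have hrL : r ∉ L := by
    intro hrL
    have h1 : (⟨r, hrL⟩ : L) ∈ center L := by
      rw [mem_center_iff]
      intro g
      exact Subtype.ext (hr g g.2).symm
    rcases (hzc _).1 h1 with h2 | h2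
    · have h3 : r = 1 := congrArg Subtype.val h2
      rw [h3, mul_one] at hrr
      exact hz1' hrr.symm
    · have h3 : r = z := congrArg Subtype.val h2
      rw [h3, hzz'] at hrr
      exact hz1' hrr.symm
  have hbr : r * (b : G) = b * r := hr b b.2
  refine hPT (sylow_eq_of_pair h L ⟨2, ?_⟩ hr (x := z) (y := b * r)
    (mem_sup_left ⟨z, hzI, rfl⟩) (mul_mem (mem_sup_left ⟨b, hb, rfl⟩) (mem_sup_right (mem_zpowers r))) hz1' ?_ ?_ hzz'
    ?_ ?_)
  · have : r ^ 2 ^ 2 = (r * r) * (r * r) := by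
      rw [show 2 ^ 2 = 4 by norm_num]
      simp [pow_succ, mul_assoc]
    rw [this, hrr, hzz']
  · intro h1
    apply hrL
    have : r = (b : G)⁻¹ * (b * r) := by group
    rw [this, h1, mul_one]
    exact inv_mem b.2
  · intro h1
    apply hrL
    have : r = (b : G)⁻¹ * (b * r) := by group
    rw [this, ← h1]
    exact mul_mem (inv_mem b.2) z.2
  · calc (b : G) * r * (b * r) = b * (r * b) * r := by group
      _ = b * (b * r) * r := by rw [hbr]
      _ = (b * b) * (r * r) := by group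
      _ = 1 := by rw [hbb', hrr, hzz']
  · have h1 : (z : G) * b = b * z := congrArg Subtype.val ((mem_center_iff.1 hzC b).symm)
    have h2 : r * (z : G) = z * r := hr z z.2
    calc (z : G) * (b * r) = (z * b) * r := by group
      _ = b * (z * r) := by rw [h1]; group
      _ = b * r * z := by rw [← h2]; group

end Cfsg.Agent.R2.RkInt
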