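import Cfsg.Agent.R2.RkInt.Struct
import Cfsg.Agent.R2.RkInt.SLFive

/-!
# Two components
-/

set_option autoImplicit false
set_option linter.dupNamespace false

namespace Cfsg.Agent.R2.RkInt

open Subgroup Cfsg Cfsg.Agent.H335 Cfsg.Agent.TwoGenCore
open Cfsg.Agent.SignalizersComponents.Components

variable {G : Type*} [Group G] [Finite G]

/-- a nonsolvable group does not centralise a pair of commuting involutions -/
theorem false_of_comm (h : RkInt G) {K : Subgroup G} (hK : ¬ Group.IsSolvable K) {S : Sylow 2 G} {x y : G}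
    (hx : x ∈ (S : Subgroup G)) (hy : y ∈ (S : Subgroup G)) (hx1 : x ≠ 1) (hy1 : y ≠ 1) (hxy : x ≠ y)
    (hxx : x * x = 1) (hyy : y * y = 1) (hc : x * y = y * x) (hKx : ∀ k ∈ K, k * x = x * k)
    (hKy : ∀ k ∈ K, k * y = y * k) : False := by
  refine not_le_norm hK S ?_
  intro k hk
  refine h.norm₂ hx hy hx1 hy1 hxy hxx hyy hc ?_ ?_
  · rw [hKx k hk]
    have : x * k * k⁻¹ = x := by group
    rw [this]
    exact hx
  · rw [hKy k hk]
    have : y * k * k⁻¹ = y := by group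
    rw [this]
    exact hy

omit [Finite G] in
theorem comp_comm {K L : Subgroup G} (hK : IsComponent K) (hL : IsComponent L) (hne : K ≠ L) :
    ∀ a ∈ K, ∀ b ∈ L, a * b = b * a := by
  intro a ha b hb
  exact (mem_centralizer_iff.1 (component_le_centralizer_of_ne hK hL hne ha) b hb).symm

theorem center_le_core (hO : oddCore G = ⊥) {L : Subgroup G} (hL : IsComponent L) {x : L} (hx : x ∈ center L) :
    (x : G) ∈ pCore 2 G := by
  have h2 : Fact (Nat.Prime 2) := ⟨Nat.prime_two⟩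
  have h3 : fittingSubgroup G = pCore 2 G := OddOrderLocal.RankTwoSolvable.fittingSubgroup_eq_pCore hO
  apply cent_genFitting_le hO
  have h5 : generalizedFittingSubgroup G ≤ centralizer ({(x : G)} : Set G) := by
    rw [Lib.GenFitting.genFitting_def]
    refine sup_le ?_ ?_
    · rw [layer_le_iff]
      intro K hK a ha
      rw [mem_centralizer_singleton_iff]
      by_cases hKL : K = L
      · subst hKL
        exact congrArg Subtype.val (mem_center_iff.1 hx ⟨a, ha⟩)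
      · exact comp_comm hK hL hKL a ha x x.2
    · rw [h3]
      intro r hr
      rw [mem_centralizer_singleton_iff]
      exact (comm_core hO hL x x.2 r hr).symm
  rw [mem_centralizer_iff]
  intro a ha
  exact mem_centralizer_singleton_iff.1 (h5 ha)

theorem comp_center_two (hO : oddCore G = ⊥) {L : Subgroup G} (hL : IsComponent L) : IsPGroup 2 (center L) := by
  rintro ⟨x, hx⟩
  obtain ⟨k, hk⟩ := Lib.Cores.pCore_isPGroup (G := G) 2 ⟨x, center_le_core hO hL hx⟩
  have hk' : (x : G) ^ 2 ^ k = 1 := congrArg Subtype.val hk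
  exact ⟨k, Subtype.ext (Subtype.ext hk')⟩

/-- with a second component, the Sylow 2-subgroups of a component are of 2-rank one -/
theorem comp_not_four (h : RkInt G) {K L : Subgroup G} (hK : IsComponent K) (hL : IsComponent L) (hne : K ≠ L)
    (P : Sylow 2 L) : ¬ Four (P : Subgroup L) := by
  rintro ⟨x, hx, y, hy, hx1, hy1, hxy, hxx, hyy, hc⟩
  obtain ⟨S, hS⟩ := (P.2.map L.subtype).exists_le_sylow
  exact false_of_comm h (quasisimple_not_isSolvable hK.2) (hS ⟨x, hx, rfl⟩) (hS ⟨y, hy, rfl⟩)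
    (fun h => hx1 (Subtype.ext h)) (fun h => hy1 (Subtype.ext h)) (fun h => hxy (Subtype.ext h))
    (congrArg Subtype.val hxx) (congrArg Subtype.val hyy) (congrArg Subtype.val hc)
    (fun k hk => comp_comm hK hL hne k hk x x.2) (fun k hk => comp_comm hK hL hne k hk y y.2)

/-- two components, amalgamated centres -/
structure TC {G : Type*} [Group G] (L₁ L₂ : Subgroup G) (z : G) : Prop where
  rk : RkInt G
  ns : ¬ Group.IsSolvable G
  core : oddCore G = ⊥
  c1 : IsComponent L₁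
  c2 : IsComponent L₂
  ne : L₁ ≠ L₂
  z1 : z ≠ 1
  zz : z * z = 1
  ctr1 : ∀ x : L₁, x ∈ center L₁ ↔ (x : G) = 1 ∨ (x : G) = z
  ctr2 : ∀ x : L₂, x ∈ center L₂ ↔ (x : G) = 1 ∨ (x : G) = z
  zL1 : z ∈ L₁
  zL2 : z ∈ L₂

theorem exists_tc (h : RkInt G) (hns : ¬ Group.IsSolvable G) (hO : oddCore G = ⊥) {L₁ L₂ : Subgroup G}
    (h1 : IsComponent L₁) (h2 : IsComponent L₂) (hne : L₁ ≠ L₂) : ∃ z : G, TC L₁ L₂ z := by
  have h2p : Fact (Nat.Prime 2) := ⟨Nat.prime_two⟩
  obtain ⟨P₁⟩ : Nonempty (Sylow 2 L₁) := inferInstance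
  obtain ⟨P₂⟩ : Nonempty (Sylow 2 L₂) := inferInstance
  obtain ⟨-, z₁, hz1, hzz1, hzc1⟩ := exists_center h1.2 (comp_center_two hO h1) P₁ (comp_not_four h h2 h1 hne.symm P₁)
  obtain ⟨-, z₂, hz2, hzz2, hzc2⟩ := exists_center h2.2 (comp_center_two hO h2) P₂ (comp_not_four h h1 h2 hne P₂)
  have he : (z₁ : G) = z₂ := eq_of_not_four' (Lib.Cores.pCore_isPGroup 2) (core_not_four h hns)
    (center_le_core hO h1 ((hzc1 z₁).2 (Or.inr rfl))) (center_le_core hO h2 ((hzc2 z₂).2 (Or.inr rfl)))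
    (fun h => hz1 (Subtype.ext h)) (fun h => hz2 (Subtype.ext h)) (congrArg Subtype.val hzz1)
    (congrArg Subtype.val hzz2)
  refine ⟨z₁, h, hns, hO, h1, h2, hne, fun h => hz1 (Subtype.ext h), congrArg Subtype.val hzz1, ?_, ?_, z₁.2,
    he ▸ z₂.2⟩
  · intro x
    rw [hzc1]
    constructor
    · rintro (rfl | rfl)
      · exact Or.inl rfl
      · exact Or.inr rfl
    · rintro (h3 | h3)
      · exact Or.inl (Subtype.ext h3)
      · exact Or.inr (Subtype.ext h3)
  · intro x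
    rw [hzc2, he]
    constructor
    · rintro (rfl | rfl)
      · exact Or.inl rfl
      · exact Or.inr rfl
    · rintro (h3 | h3)
      · exact Or.inl (Subtype.ext h3)
      · exact Or.inr (Subtype.ext h3)

namespace TC

variable {L₁ L₂ : Subgroup G} {z : G}

omit [Finite G] in
theorem symm (h : TC L₁ L₂ z) : TC L₂ L₁ z :=
  ⟨h.rk, h.ns, h.core, h.c2, h.c1, h.ne.symm, h.z1, h.zz, h.ctr2, h.ctr1, h.zL2, h.zL1⟩

omit [Finite G] in
theorem comm (h : TC L₁ L₂ z) : ∀ a ∈ L₁, ∀ b ∈ L₂, a * b = b * a := by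
  intro a ha b hb
  exact (mem_centralizer_iff.1 (component_le_centralizer_of_ne h.c1 h.c2 h.ne ha) b hb).symm

theorem z_core (h : TC L₁ L₂ z) : z ∈ pCore 2 G :=
  center_le_core h.core h.c1 (x := ⟨z, h.zL1⟩) ((h.ctr1 _).2 (Or.inr rfl))

theorem z_sylow (h : TC L₁ L₂ z) (S : Sylow 2 G) : z ∈ (S : Subgroup G) :=
  Lib.Cores.pCore_le_sylow S h.z_core

theorem root (h : TC L₁ L₂ z) : ∃ (P : Sylow 2 L₁), ∃ a ∈ (P : Subgroup L₁), (a : G) * a = z := by
  obtain ⟨P⟩ : Nonempty (Sylow 2 L₁) := inferInstance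
  have hF := comp_not_four h.rk h.c2 h.c1 h.ne.symm P
  have hZ2 := comp_center_two h.core h.c1
  obtain ⟨⟨n, ⟨e⟩⟩, -⟩ := exists_center h.c1.2 hZ2 P hF
  have hzC : (⟨z, h.zL1⟩ : L₁) ∈ center L₁ := (h.ctr1 _).2 (Or.inr rfl)
  obtain ⟨a, ha, -, -, haa, -, -⟩ := quat_pair P.2 hF e (le_sylow_of_normal inferInstance hZ2 P hzC)
    (fun h' => h.z1 (congrArg Subtype.val h')) (Subtype.ext h.zz)
  exact ⟨P, a, ha, congrArg Subtype.val haa⟩

omit [Finite G] in
theorem notMem (h : TC L₁ L₂ z) {a : G} (ha : a ∈ L₁) (haa : a * a = z) : a ∉ L₂ := by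
  intro ha2
  have h1 : (⟨a, ha⟩ : L₁) ∈ center L₁ := by
    rw [mem_center_iff]
    intro g
    exact Subtype.ext (h.comm g g.2 a ha2)
  rcases (h.ctr1 _).1 h1 with h3 | h3
  · change a = 1 at h3
    rw [h3, mul_one] at haa
    exact h.z1 haa.symm
  · change a = z at h3
    rw [h3, h.zz] at haa
    exact h.z1 haa.symm

omit [Finite G] in
/-- an involution `a r`, `a ∈ L₁`, `r` centralising `L₁`, `r ∉ L₁` -/
theorem pair (h : TC L₁ L₂ z) {a r : G} (ha : a ∈ L₁) (haa : a * a = z) (har : a * r = r * a) (hr : r ∉ L₁)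
    (hrr : r * r = z) : a * r ≠ 1 ∧ z ≠ a * r ∧ (a * r) * (a * r) = 1 ∧ z * (a * r) = (a * r) * z := by
  refine ⟨?_, ?_, ?_, ?_⟩
  · intro h1
    apply hr
    have : r = a⁻¹ * (a * r) := by group
    rw [this, h1, mul_one]
    exact inv_mem ha
  · intro h1
    apply hr
    have : r = a⁻¹ * (a * r) := by group
    rw [this, ← h1]
    exact mul_mem (inv_mem ha) h.zL1
  · calc a * r * (a * r) = a * (r * a) * r := by group
      _ = a * (a * r) * r := by rw [har]
      _ = (a * a) * (r * r) := by group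
      _ = 1 := by rw [haa, hrr, h.zz]
  · have h1 : z * a = a * z := by rw [← haa]; group
    have h2 : z * r = r * z := by rw [← hrr]; group
    calc z * (a * r) = (z * a) * r := by group
      _ = a * (z * r) := by rw [h1]; group
      _ = a * r * z := by rw [h2]; group

/-- `O₂(G) = ⟨z⟩` -/
theorem core_eq (h : TC L₁ L₂ z) : ∀ r ∈ pCore 2 G, r = 1 ∨ r = z := by
  intro r hr
  by_contra hcon
  push Not at hcon
  obtain ⟨r', hr', hrr', -⟩ := exists_root' (Lib.Cores.pCore_isPGroup 2) (core_not_four h.rk h.ns) h.z_core h.z1 h.zz hr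
    hcon.1 hcon.2
  obtain ⟨P, a, haP, haa⟩ := h.root
  obtain ⟨S, hS⟩ := (P.2.map L₁.subtype).exists_le_sylow
  have hr'L : r' ∉ L₁ := by
    intro hL
    have h1 : (⟨r', hL⟩ : L₁) ∈ center L₁ := by
      rw [mem_center_iff]
      intro g
      exact Subtype.ext (comm_core h.core h.c1 g g.2 r' hr')
    rcases (h.ctr1 _).1 h1 with h3 | h3
    · change r' = 1 at h3
      rw [h3, mul_one] at hrr'
      exact h.z1 hrr'.symm
    · change r' = z at h3
      rw [h3, h.zz] at hrr'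
      exact h.z1 hrr'.symm
  obtain ⟨p1, p2, p3, p4⟩ := h.pair a.2 haa (comm_core h.core h.c1 a a.2 r' hr') hr'L hrr'
  refine false_of_comm h.rk (quasisimple_not_isSolvable h.c2.2) (S := S) (h.z_sylow S)
    (mul_mem (hS ⟨a, haP, rfl⟩) (Lib.Cores.pCore_le_sylow S hr')) h.z1 p1 p2 h.zz p3 p4
    (fun k hk => (h.comm z h.zL1 k hk).symm) ?_
  intro k hk
  have h1 : (a : G) * k = k * a := h.comm a a.2 k hk
  have h2 : k * r' = r' * k := comm_core h.core h.c2 k hk r' hr'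
  calc k * (a * r') = (k * a) * r' := by group
    _ = a * (k * r') := by rw [← h1]; group
    _ = a * r' * k := by rw [h2]; group

/-- there are only two components -/
theorem only (h : TC L₁ L₂ z) {K : Subgroup G} (hK : IsComponent K) : K = L₁ ∨ K = L₂ := by
  by_contra hcon
  push Not at hcon
  obtain ⟨P, a, haP, haa⟩ := h.root
  obtain ⟨P', b, hbP, hbb⟩ := h.symm.root
  -- a common Sylow 2-subgroup
  have h2 : IsPGroup 2 ((P : Subgroup L₁).map L₁.subtype ⊔ (P' : Subgroup L₂).map L₂.subtype : Subgroup G) := by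
    refine IsPGroup.to_sup_of_normal_left' (P.2.map _) (P'.2.map _) ?_
    refine le_trans ?_ (Subgroup.centralizer_le_normalizer _)
    rintro _ ⟨x, -, rfl⟩
    rw [mem_centralizer_iff]
    rintro _ ⟨y, -, rfl⟩
    exact h.comm y y.2 x x.2
  obtain ⟨S, hS⟩ := h2.exists_le_sylow
  obtain ⟨p1, p2, p3, p4⟩ := h.pair a.2 haa (h.comm a a.2 b b.2) (h.symm.notMem b.2 hbb) hbb
  refine false_of_comm h.rk (quasisimple_not_isSolvable hK.2) (S := S) (h.z_sylow S)
    (mul_mem (hS (mem_sup_left ⟨a, haP, rfl⟩)) (hS (mem_sup_right ⟨b, hbP, rfl⟩))) h.z1 p1 p2 h.zz p3 p4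
    (fun k hk => comp_comm hK h.c1 hcon.1 k hk z h.zL1) ?_
  intro k hk
  have h1 : k * a = a * k := comp_comm hK h.c1 hcon.1 k hk a a.2
  have h3 : k * b = b * k := comp_comm hK h.c2 hcon.2 k hk b b.2
  calc k * ((a : G) * b) = (k * a) * b := by group
    _ = a * (k * b) := by rw [h1]; group
    _ = a * b * k := by rw [h3]; group

theorem tiz (h : TC L₁ L₂ z) : TIZ L₁ := by
  obtain ⟨P', b, hbP, hbb⟩ := h.symm.root
  refine tiz_of_root h.rk L₁ (fun P => comp_not_four h.rk h.c2 h.c1 h.ne.symm P) (z := ⟨z, h.zL1⟩) (r := b)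
    (fun h' => h.z1 (congrArg Subtype.val h')) (Subtype.ext h.zz) ?_ (fun l hl => (h.comm l hl b b.2).symm) hbb
  intro x
  rw [h.ctr1]
  constructor
  · rintro (h3 | h3)
    · exact Or.inl (Subtype.ext h3)
    · exact Or.inr (Subtype.ext h3)
  · rintro (rfl | rfl)
    · exact Or.inl rfl
    · exact Or.inr rfl

theorem innP (h : TC L₁ L₂ z) : InnP L₁ := by
  have hsim := h.c1.2.2
  exact innP_of_tiz h.c1.2.1 (comp_center_two h.core h.c1) h.tiz

theorem five (h : TC L₁ L₂ z) : Nonempty (L₁ ≃* Matrix.SpecialLinearGroup (Fin 2) (ZMod 5)) := by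
  obtain ⟨P⟩ : Nonempty (Sylow 2 L₁) := inferInstance
  exact sl_five h.c1.2 (comp_center_two h.core h.c1) h.tiz P (comp_not_four h.rk h.c2 h.c1 h.ne.symm P)

/-- the conjugation action of an element of `S` on a normal component -/
theorem inner (h : TC L₁ L₂ z) (h1 : L₁.Normal) (h2 : L₂.Normal) (S : Sylow 2 G) {s : G}
    (hs : s ∈ (S : Subgroup G)) : ∃ y ∈ L₁, ∀ l ∈ L₁, s * l * s⁻¹ = y * l * y⁻¹ := by
  have h2p : Fact (Nat.Prime 2) := ⟨Nat.prime_two⟩
  obtain ⟨P, hP⟩ := PLocal.ThompsonFrattini.exists_sylow_subgroupOf S L₁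
  obtain ⟨P', hP'⟩ := PLocal.ThompsonFrattini.exists_sylow_subgroupOf S L₂
  have hF := comp_not_four h.rk h.c2 h.c1 h.ne.symm P
  have hF' := comp_not_four h.rk h.c1 h.c2 h.ne P'
  have hZ2 := comp_center_two h.core h.c1
  have hZ2' := comp_center_two h.core h.c2
  obtain ⟨⟨n, ⟨e⟩⟩, -⟩ := exists_center h.c1.2 hZ2 P hF
  obtain ⟨⟨n', ⟨e'⟩⟩, -⟩ := exists_center h.c2.2 hZ2' P' hF'
  have hzC : (⟨z, h.zL1⟩ : L₁) ∈ center L₁ := (h.ctr1 _).2 (Or.inr rfl)
  have hzC' : (⟨z, h.zL2⟩ : L₂) ∈ center L₂ := (h.ctr2 _).2 (Or.inr rfl)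
  obtain ⟨a, ha, -, -, haa, -, -⟩ := quat_pair P.2 hF e (le_sylow_of_normal inferInstance hZ2 P hzC)
    (fun h' => h.z1 (congrArg Subtype.val h')) (Subtype.ext h.zz)
  obtain ⟨b, hb, -, -, hbb, -, -⟩ := quat_pair P'.2 hF' e' (le_sylow_of_normal inferInstance hZ2' P' hzC')
    (fun h' => h.z1 (congrArg Subtype.val h')) (Subtype.ext h.zz)
  have haa' : (a : G) * a = z := congrArg Subtype.val haa
  have hbb' : (b : G) * b = z := congrArg Subtype.val hbb
  have haS : (a : G) ∈ (S : Subgroup G) := by rw [hP] at ha; exact ha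
  have hbS : (b : G) ∈ (S : Subgroup G) := by rw [hP'] at hb; exact hb
  obtain ⟨p1, p2, p3, p4⟩ := h.pair a.2 haa' (h.comm a a.2 b b.2) (h.symm.notMem b.2 hbb') hbb'
  have hc : ∀ y : L₁, ((MulAut.conjNormal s y : L₁) : G) = s * y * s⁻¹ := fun y => MulAut.conjNormal_apply s y
  obtain ⟨k, hk⟩ := S.2 ⟨s, hs⟩
  have hk' : s ^ 2 ^ k = 1 := congrArg Subtype.val hk
  obtain ⟨y, hy⟩ := h.innP P (MulAut.conjNormal s) ⟨k, by rw [← map_pow, hk', map_one]⟩ (fun n hn => by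
    have h3 : (n : G) ∈ normalizer ((S : Subgroup G) : Set G) := by
      refine h.rk.norm₂ (h.z_sylow S) (mul_mem haS hbS) h.z1 p1 p2 h.zz p3 p4 ?_ ?_
      · have h4 : (n : G) * z = z * n := h.comm n n.2 z h.zL2
        rw [h4]
        have h5 : z * (n : G) * (n : G)⁻¹ = z := by group
        rw [h5]
        exact h.z_sylow S
      · have h4 : (n : G) * b = b * n := h.comm n n.2 b b.2
        have h5 : (n : G) * (a * b) * (n : G)⁻¹ = (n * a * (n : G)⁻¹) * b := by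
          calc (n : G) * (a * b) * (n : G)⁻¹ = (n * a * (n : G)⁻¹) * (n * b) * (n : G)⁻¹ := by group
            _ = (n * a * (n : G)⁻¹) * (b * n) * (n : G)⁻¹ := by rw [h4]
            _ = _ := by group
        rw [h5]
        refine mul_mem ?_ hbS
        have h6 := (mem_normalizer_iff.1 hn _).1 ha
        rw [hP] at h6
        exact h6
    rw [hP]
    change ((MulAut.conjNormal s n : L₁) : G) * (n : G)⁻¹ ∈ (S : Subgroup G)
    rw [hc]
    have h5 : s * (n : G) * s⁻¹ * (n : G)⁻¹ = s * ((n : G) * s⁻¹ * (n : G)⁻¹) := by group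
    rw [h5]
    exact mul_mem hs ((mem_normalizer_iff.1 h3 s⁻¹).1 ((S : Subgroup G).inv_mem hs)))
  refine ⟨y, y.2, fun l hl => ?_⟩
  have h5 := hc ⟨l, hl⟩
  rw [hy] at h5
  exact h5.symm

theorem le_of_normal (h : TC L₁ L₂ z) (h1 : L₁.Normal) (h2 : L₂.Normal) (S : Sylow 2 G) :
    (S : Subgroup G) ≤ L₁ ⊔ L₂ := by
  have h2p : Fact (Nat.Prime 2) := ⟨Nat.prime_two⟩
  intro s hs
  obtain ⟨y₁, hy₁, h3⟩ := h.inner h1 h2 S hs
  obtain ⟨y₂, hy₂, h4⟩ := h.symm.inner h2 h1 S hs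
  have hyy : y₁ * y₂ = y₂ * y₁ := h.comm y₁ hy₁ y₂ hy₂
  set c := y₂⁻¹ * y₁⁻¹ * s with hcdef
  have hc1 : ∀ l ∈ L₁, c * l = l * c := by
    intro l hl
    have h5 : y₂ * l = l * y₂ := (h.comm l hl y₂ hy₂).symm
    calc c * l = y₂⁻¹ * y₁⁻¹ * (s * l * s⁻¹) * s := by rw [hcdef]; group
      _ = y₂⁻¹ * y₁⁻¹ * (y₁ * l * y₁⁻¹) * s := by rw [h3 l hl]
      _ = y₂⁻¹ * (l * y₂) * y₂⁻¹ * y₁⁻¹ * s := by group
      _ = y₂⁻¹ * (y₂ * l) * y₂⁻¹ * y₁⁻¹ * s := by rw [h5]
      _ = l * c := by rw [hcdef]; group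
  have hc2 : ∀ l ∈ L₂, c * l = l * c := by
    intro l hl
    have h5 : y₁ * (y₂ * l * y₂⁻¹) = (y₂ * l * y₂⁻¹) * y₁ :=
      h.comm y₁ hy₁ _ (mul_mem (mul_mem hy₂ hl) (inv_mem hy₂))
    have h6 : y₂⁻¹ * y₁⁻¹ = y₁⁻¹ * y₂⁻¹ := by rw [← _root_.mul_inv_rev, hyy, _root_.mul_inv_rev]
    calc c * l = y₂⁻¹ * y₁⁻¹ * (s * l * s⁻¹) * s := by rw [hcdef]; group
      _ = y₂⁻¹ * y₁⁻¹ * ((y₂ * l * y₂⁻¹) * y₁) * y₁⁻¹ * s := by rw [h4 l hl]; group
      _ = y₂⁻¹ * y₁⁻¹ * (y₁ * (y₂ * l * y₂⁻¹)) * y₁⁻¹ * s := by rw [h5]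
      _ = l * (y₂⁻¹ * y₁⁻¹) * s := by group
      _ = l * c := by rw [hcdef]; group
  have hcR : c ∈ pCore 2 G := by
    apply cent_genFitting_le h.core
    have h5 : generalizedFittingSubgroup G ≤ centralizer ({c} : Set G) := by
      have h3' : fittingSubgroup G = pCore 2 G := OddOrderLocal.RankTwoSolvable.fittingSubgroup_eq_pCore h.core
      rw [Lib.GenFitting.genFitting_def]
      refine sup_le ?_ ?_
      · rw [layer_le_iff]
        intro K hK a ha
        rw [mem_centralizer_singleton_iff]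
        rcases h.only hK with rfl | rfl
        · exact (hc1 a ha).symm
        · exact (hc2 a ha).symm
      · rw [h3']
        intro r hr
        rw [mem_centralizer_singleton_iff]
        rcases h.core_eq r hr with rfl | rfl
        · rw [one_mul, mul_one]
        · exact (hc1 r h.zL1).symm
    rw [mem_centralizer_iff]
    intro a ha
    exact mem_centralizer_singleton_iff.1 (h5 ha)
  have hcL : c ∈ L₁ := by
    rcases h.core_eq c hcR with h5 | h5
    · rw [h5]; exact one_mem _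
    · rw [h5]; exact h.zL1
  have h5 : s = y₁ * y₂ * c := by rw [hcdef]; group
  rw [h5]
  exact mul_mem (mul_mem (mem_sup_left hy₁) (mem_sup_right hy₂)) (mem_sup_left hcL)

end TC

end Cfsg.Agent.R2.RkInt
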